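import Mathlib

/-!
The inequalities behind the minimal index bounds.
-/

set_option autoImplicit false

namespace Cfsg.Agent.H72.OmMin

/-- The two small cases: field order `q`, Witt index `d + 1`, kernel dimension `d0`. -/
def Case (q d d0 : ℕ) : Prop := (q = 2 ∧ d0 = 0 ∧ 3 ≤ d) ∨ (q = 3 ∧ d0 = 1 ∧ 2 ≤ d)

/-- The bound, times `q - 1`. -/
def bnd (q d d0 : ℕ) : ℕ := (q ^ (d + 1) - 1) * q ^ (d + d0)

/-- The number of singular vectors without the origin, Witt index `k + 1`. -/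
def zNum (q k d0 : ℕ) : ℕ := (q ^ (k + 1) - 1) * (q ^ (k + d0) + 1)

variable {q d d0 : ℕ}

theorem Case.two_le (h : Case q d d0) : 2 ≤ q := by rcases h with h | h <;> omega

theorem Case.two_le_d (h : Case q d d0) : 2 ≤ d := by rcases h with h | h <;> omega

theorem sub_one_mono {a b : ℕ} (h : 2 ≤ q) (hab : a ≤ b) : q ^ a - 1 ≤ q ^ b - 1 :=
  Nat.sub_le_sub_right (Nat.pow_le_pow_right (by omega) hab) 1

theorem sub_one_pos {a : ℕ} (h : 2 ≤ q) (ha : 1 ≤ a) : 0 < q ^ a - 1 := by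
  have := Nat.one_lt_pow (n := a) (by omega) (show 1 < q by omega)
  omega

theorem arith_one : bnd q d d0 ≤ zNum q d d0 :=
  Nat.mul_le_mul_left _ (Nat.le_succ _)

theorem arith_two (h : Case q d d0) {c : ℕ}
    (hc : zNum q d d0 * zNum q (d - 1) d0 ≤ c * ((q ^ 2 - 1) * (q - 1))) :
    bnd q d d0 ≤ c * (q - 1) := by
  have hd := h.two_le_d
  have h1 : q ^ 2 - 1 ≤ zNum q (d - 1) d0 := by
    rw [zNum]
    exact (sub_one_mono h.two_le (by omega)).trans (Nat.le_mul_of_pos_right _ (Nat.succ_pos _))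
  refine Nat.le_of_mul_le_mul_right ?_ (sub_one_pos h.two_le (show 1 ≤ 2 by omega))
  calc bnd q d d0 * (q ^ 2 - 1) ≤ zNum q d d0 * zNum q (d - 1) d0 :=
        Nat.mul_le_mul arith_one h1
    _ ≤ _ := hc
    _ = _ := by ring

theorem arith_prod (h : Case q d d0) :
    (q ^ (d + 1) - 1) * q ^ d0 ≤
      (q ^ (d - 1 + d0) + 1) * (q ^ (d - 2 + d0) + 1) * (q - 1) := by
  rcases h with ⟨rfl, rfl, hd⟩ | ⟨rfl, rfl, hd⟩
  · obtain ⟨e, rfl⟩ : ∃ e, d = e + 3 := ⟨d - 3, by omega⟩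
    simp only [show e + 3 - 1 + 0 = e + 2 by omega, show e + 3 - 2 + 0 = e + 1 by omega, pow_succ]
    have := Nat.one_le_two_pow (n := e)
    generalize 2 ^ e = x at *
    rcases Nat.lt_or_ge x 2 with h2 | h2
    · obtain rfl : x = 1 := by omega
      norm_num
    · have : 2 * x ≤ x * x := Nat.mul_le_mul_right x h2
      norm_num
      ring_nf at *
      omega
  · obtain ⟨e, rfl⟩ : ∃ e, d = e + 2 := ⟨d - 2, by omega⟩
    simp only [show e + 2 - 1 + 1 = e + 2 by omega, show e + 2 - 2 + 1 = e + 1 by omega, pow_succ]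
    have := Nat.one_le_pow e 3 (by omega)
    generalize 3 ^ e = x at *
    rcases Nat.lt_or_ge x 2 with h2 | h2
    · obtain rfl : x = 1 := by omega
      norm_num
    · have : 2 * x ≤ x * x := Nat.mul_le_mul_right x h2
      norm_num
      ring_nf at *
      omega

/-- Totally singular subspaces of dimension at least three. -/
theorem arith_three (h : Case q d d0) {c j : ℕ} (hj : 3 ≤ j) (hjd : j ≤ d + 1)
    (hc : zNum q d d0 * (zNum q (d - 1) d0 * zNum q (d - 2) d0) ≤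
      c * ((q ^ j - 1) * ((q ^ (j - 1) - 1) * (q ^ (j - 2) - 1)))) :
    bnd q d d0 ≤ c * (q - 1) := by
  have hd := h.two_le_d
  set A := (q ^ (d + 1) - 1) * ((q ^ d - 1) * (q ^ (d - 1) - 1))
  set P := (q ^ (d + d0) + 1) * ((q ^ (d - 1 + d0) + 1) * (q ^ (d - 2 + d0) + 1))
  have e : zNum q d d0 * (zNum q (d - 1) d0 * zNum q (d - 2) d0) = P * A := by
    simp only [zNum, A, P, show d - 1 + 1 = d by omega, show d - 2 + 1 = d - 1 by omega]
    ring
  have hA : 0 < A :=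
    Nat.mul_pos (sub_one_pos h.two_le (by omega)) (Nat.mul_pos (sub_one_pos h.two_le (by omega))
      (sub_one_pos h.two_le (by omega)))
  have h1 : P ≤ c := by
    refine Nat.le_of_mul_le_mul_right ((e ▸ hc).trans (Nat.mul_le_mul_left _ ?_)) hA
    exact Nat.mul_le_mul (sub_one_mono h.two_le hjd) (Nat.mul_le_mul
      (sub_one_mono h.two_le (by omega)) (sub_one_mono h.two_le (by omega)))
  refine le_trans ?_ (Nat.mul_le_mul_right _ h1)
  simp only [bnd, P]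
  calc (q ^ (d + 1) - 1) * q ^ (d + d0)
      ≤ (q ^ (d + 1) - 1) * q ^ d0 * (q ^ (d + d0) + 1) :=
        Nat.mul_le_mul (Nat.le_mul_of_pos_right _ (Nat.pow_pos (by have := h.two_le; omega)))
          (Nat.le_succ _)
    _ ≤ (q ^ (d - 1 + d0) + 1) * (q ^ (d - 2 + d0) + 1) * (q - 1) * (q ^ (d + d0) + 1) :=
        Nat.mul_le_mul_right _ (arith_prod h)
    _ = _ := by ring

/-- A radical of dimension at least two. -/
theorem arith_rad (h : Case q d d0) {c j k : ℕ} (hj : 2 ≤ j) (hjd : j ≤ d) (hjk : j ≤ k)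
    (hc : zNum q (d - 1) d0 * zNum q (d - 2) d0 ≤ c * ((q ^ j - 1) * (q ^ (j - 1) - 1))) :
    bnd q d d0 ≤ c * q ^ k * (q - 1) := by
  have hd := h.two_le_d
  have hq := h.two_le
  set P := (q ^ (d - 1 + d0) + 1) * (q ^ (d - 2 + d0) + 1)
  have e : zNum q (d - 1) d0 * zNum q (d - 2) d0 = P * ((q ^ d - 1) * (q ^ (d - 1) - 1)) := by
    simp only [zNum, P, show d - 1 + 1 = d by omega, show d - 2 + 1 = d - 1 by omega]
    ring
  have h2 : (q ^ j - 1) * q ^ d ≤ (q ^ d - 1) * q ^ j := by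
    rw [tsub_mul, tsub_mul, one_mul, one_mul, mul_comm (q ^ j) (q ^ d)]
    exact Nat.sub_le_sub_left (Nat.pow_le_pow_right (by omega) hjd) _
  have h3 : (q ^ j - 1) * (q ^ (j - 1) - 1) * q ^ d ≤
      (q ^ d - 1) * (q ^ (d - 1) - 1) * q ^ j := by
    rw [mul_right_comm, mul_right_comm (q ^ d - 1)]
    exact Nat.mul_le_mul h2 (sub_one_mono hq (by omega))
  have h4 : P * q ^ d ≤ c * q ^ j := by
    refine Nat.le_of_mul_le_mul_right ?_
      (Nat.mul_pos (sub_one_pos hq (show 1 ≤ j by omega)) (sub_one_pos hq (show 1 ≤ j - 1 by omega)))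
    calc P * q ^ d * ((q ^ j - 1) * (q ^ (j - 1) - 1))
        = P * ((q ^ j - 1) * (q ^ (j - 1) - 1) * q ^ d) := by ring
      _ ≤ P * ((q ^ d - 1) * (q ^ (d - 1) - 1) * q ^ j) := Nat.mul_le_mul_left _ h3
      _ = zNum q (d - 1) d0 * zNum q (d - 2) d0 * q ^ j := by rw [e]; ring
      _ ≤ c * ((q ^ j - 1) * (q ^ (j - 1) - 1)) * q ^ j := Nat.mul_le_mul_right _ hc
      _ = _ := by ring
  have h5 : c * q ^ j ≤ c * q ^ k := Nat.mul_le_mul_left _ (Nat.pow_le_pow_right (by omega) hjk)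
  refine le_trans ?_ (Nat.mul_le_mul_right _ (h4.trans h5))
  calc bnd q d d0 = (q ^ (d + 1) - 1) * q ^ d0 * q ^ d := by rw [bnd, pow_add q d d0]; ring
    _ ≤ P * (q - 1) * q ^ d := Nat.mul_le_mul_right _ (arith_prod h)
    _ = _ := by ring

/-- A radical point, dimension at least three. -/
theorem arith_point (h : Case q d d0) {c k : ℕ} (hk : 3 ≤ k)
    (hc : zNum q (d - 1) d0 ≤ c * (q - 1)) : bnd q d d0 ≤ c * q ^ k * (q - 1) := by
  have hd := h.two_le_d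
  have hq := h.two_le
  have h1 : q ^ (d + 1) - 1 ≤ (q ^ d - 1) * q ^ 2 := by
    obtain ⟨e, rfl⟩ : ∃ e, d = e + 2 := ⟨d - 2, by omega⟩
    have := Nat.one_le_pow e q (by omega)
    rw [tsub_mul, one_mul]
    have : q ^ (e + 2 + 1) * 2 ≤ q ^ (e + 2) * q ^ 2 := by
      rw [pow_succ q (e + 2), pow_two q, ← mul_assoc (q ^ (e + 2))]
      exact Nat.mul_le_mul_left _ hq
    have : q ^ 2 ≤ q ^ (e + 2 + 1) := Nat.pow_le_pow_right (by omega) (by omega)
    omega
  calc bnd q d d0 ≤ (q ^ d - 1) * q ^ 2 * (q ^ (d - 1 + d0) * q) := by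
        rw [bnd, ← pow_succ, show d - 1 + d0 + 1 = d + d0 by omega]
        exact Nat.mul_le_mul_right _ h1
    _ ≤ (q ^ d - 1) * (q ^ (d - 1 + d0) + 1) * q ^ 3 := by
        rw [show (q ^ d - 1) * q ^ 2 * (q ^ (d - 1 + d0) * q) =
          (q ^ d - 1) * q ^ (d - 1 + d0) * q ^ 3 by ring]
        exact Nat.mul_le_mul_right _ (Nat.mul_le_mul_left _ (Nat.le_succ _))
    _ ≤ c * (q - 1) * q ^ 3 := by
        refine Nat.mul_le_mul_right _ ?_
        rwa [zNum, show d - 1 + 1 = d by omega] at hc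
    _ ≤ c * (q - 1) * q ^ k := Nat.mul_le_mul_left _ (Nat.pow_le_pow_right (by omega) hk)
    _ = _ := by ring

theorem low_sphere {z : ℕ} (hz : q ^ (2 * d + d0) ≤ q * z + q ^ (d + d0)) :
    q ^ (d + d0) * (q ^ d - 1) ≤ q * z := by
  rw [mul_tsub, mul_one, ← pow_add, show d + d0 + d = 2 * d + d0 by omega]
  omega

/-- A radical point, dimension two. -/
theorem arith_point_two (h : Case q d d0) {c z : ℕ}
    (hz : q ^ (2 * (d - 1) + d0) ≤ q * z + q ^ (d - 1 + d0))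
    (hc : zNum q (d - 1) d0 * z ≤ c * (q - 1) * (q - 1)) :
    bnd q d d0 ≤ c * q ^ 2 * (q - 1) := by
  have hd := h.two_le_d
  have hq := h.two_le
  have h0 := low_sphere hz
  rw [zNum, show d - 1 + 1 = d by omega] at hc
  refine Nat.le_of_mul_le_mul_right ?_ (show 0 < q - 1 by omega)
  have h1 : q ^ (d + 1) - 1 ≤ (q ^ d - 1) * (q ^ (d - 1 + d0) + 1) := by
    refine le_trans ?_ (Nat.mul_le_mul_left _
      (show q + 1 ≤ q ^ (d - 1 + d0) + 1 from Nat.succ_le_succ (Nat.le_self_pow (by omega) q)))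
    have := Nat.le_self_pow (show d ≠ 0 by omega) q
    rw [tsub_mul, one_mul, pow_succ, mul_add, mul_one]
    omega
  have h2 : q - 1 ≤ q ^ (d - 1) - 1 := by
    simpa using sub_one_mono hq (show 1 ≤ d - 1 by omega)
  calc bnd q d d0 * (q - 1) = (q ^ (d + 1) - 1) * (q - 1) * q ^ (d + d0) := by rw [bnd]; ring
    _ ≤ (q ^ d - 1) * (q ^ (d - 1 + d0) + 1) * (q ^ (d - 1) - 1) * q ^ (d + d0) :=
        Nat.mul_le_mul_right _ (Nat.mul_le_mul h1 h2)
    _ = (q ^ d - 1) * (q ^ (d - 1 + d0) + 1) * (q ^ (d - 1 + d0) * (q ^ (d - 1) - 1)) * q := by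
        rw [show q ^ (d + d0) = q ^ (d - 1 + d0) * q by
          rw [← pow_succ]; congr 1; omega]
        ring
    _ ≤ (q ^ d - 1) * (q ^ (d - 1 + d0) + 1) * (q * z) * q :=
        Nat.mul_le_mul_right _ (Nat.mul_le_mul_left _ h0)
    _ = (q ^ d - 1) * (q ^ (d - 1 + d0) + 1) * z * q ^ 2 := by ring
    _ ≤ c * (q - 1) * (q - 1) * q ^ 2 := Nat.mul_le_mul_right _ hc
    _ = _ := by ring

/-- A non-singular radical point. -/
theorem arith_nonsing {c k : ℕ} (hd : 1 ≤ d) (hk : 3 ≤ k) (hc : 2 ^ (2 * d) ≤ 2 * c + 2 ^ d) :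
    bnd 2 d 0 ≤ c * 2 ^ k * (2 - 1) := by
  have h0 := low_sphere (q := 2) (d := d) (d0 := 0) (z := c) hc
  have h1 : c * 2 ^ 3 ≤ c * 2 ^ k := Nat.mul_le_mul_left _ (Nat.pow_le_pow_right (by omega) hk)
  have h2 : 2 ^ (d + 1) - 1 ≤ (2 ^ d - 1) * 4 := by
    have := Nat.le_self_pow (show d ≠ 0 by omega) 2
    rw [pow_succ]; omega
  calc bnd 2 d 0 ≤ (2 ^ d - 1) * 4 * 2 ^ (d + 0) := Nat.mul_le_mul_right _ h2
    _ = 2 ^ (d + 0) * (2 ^ d - 1) * 4 := by ring
    _ ≤ 2 * c * 4 := Nat.mul_le_mul_right _ h0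
    _ = c * 2 ^ 3 := by ring
    _ ≤ c * 2 ^ k * (2 - 1) := by simpa using h1

/-- A non-degenerate subspace. -/
theorem arith_large (h : Case q d d0) {c k : ℕ} (hc : q ^ (2 * d + d0 + 1) ≤ c * q ^ k) :
    bnd q d d0 ≤ c * q ^ k * (q - 1) := by
  have := h.two_le
  refine le_trans ?_ (Nat.le_mul_of_pos_right _ (show 0 < q - 1 by omega))
  refine le_trans ?_ hc
  rw [bnd, show 2 * d + d0 + 1 = d + 1 + (d + d0) by omega, pow_add q (d + 1)]
  exact Nat.mul_le_mul_right _ (Nat.sub_le _ _)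

/-- A non-degenerate plane. -/
theorem arith_plane (h : Case q d d0) {c z w : ℕ}
    (hz : q ^ (2 * d + d0) ≤ q * z + q ^ (d + d0))
    (hw : q ^ (2 * d + d0 - 3) ≤ w)
    (hc : z * w ≤ c * (2 * (q ^ 2 - 1))) :
    bnd q d d0 ≤ c * q ^ 2 * (q - 1) := by
  have hd := h.two_le_d
  have hq := h.two_le
  have h0 := low_sphere hz
  have key : (q ^ (d + 1) - 1) * (2 * (q + 1)) ≤ (q ^ d - 1) * q ^ (2 * d + d0 - 2) := by
    rcases h with ⟨rfl, rfl, hd⟩ | ⟨rfl, rfl, hd⟩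
    · obtain ⟨e, rfl⟩ : ∃ e, d = e + 3 := ⟨d - 3, by omega⟩
      rw [show 2 * (e + 3) + 0 - 2 = e + e + 4 by omega]
      simp only [pow_succ, pow_add]
      have := Nat.one_le_two_pow (n := e)
      generalize 2 ^ e = x at *
      ring_nf
      calc (x * 16 - 1) * 6 ≤ (x * 8 - 1) * 16 := by omega
        _ ≤ (x * 8 - 1) * (x ^ 2 * 16) :=
          Nat.mul_le_mul_left _ (Nat.le_mul_of_pos_left _ (Nat.pow_pos (by omega)))
        _ = _ := by ring
    · obtain ⟨e, rfl⟩ : ∃ e, d = e + 2 := ⟨d - 2, by omega⟩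
      rw [show 2 * (e + 2) + 1 - 2 = e + e + 3 by omega]
      simp only [pow_succ, pow_add]
      have := Nat.one_le_pow e 3 (by omega)
      generalize 3 ^ e = x at *
      ring_nf
      calc (x * 27 - 1) * 8 ≤ (x * 9 - 1) * 27 := by omega
        _ ≤ (x * 9 - 1) * (x ^ 2 * 27) :=
          Nat.mul_le_mul_left _ (Nat.le_mul_of_pos_left _ (Nat.pow_pos (by omega)))
        _ = _ := by ring
  have hsq : q ^ 2 - 1 = (q + 1) * (q - 1) := by simpa using Nat.sq_sub_sq q 1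
  refine Nat.le_of_mul_le_mul_right ?_ (show 0 < 2 * (q ^ 2 - 1) from
    Nat.mul_pos (by omega) (sub_one_pos hq (by omega)))
  calc bnd q d d0 * (2 * (q ^ 2 - 1))
      = q ^ (d + d0) * ((q ^ (d + 1) - 1) * (2 * (q + 1))) * (q - 1) := by rw [bnd, hsq]; ring
    _ ≤ q ^ (d + d0) * ((q ^ d - 1) * q ^ (2 * d + d0 - 2)) * (q - 1) :=
        Nat.mul_le_mul_right _ (Nat.mul_le_mul_left _ key)
    _ = q ^ (d + d0) * (q ^ d - 1) * q ^ (2 * d + d0 - 2) * (q - 1) := by ring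
    _ ≤ q * z * q ^ (2 * d + d0 - 2) * (q - 1) :=
        Nat.mul_le_mul_right _ (Nat.mul_le_mul_right _ h0)
    _ = z * q ^ (2 * d + d0 - 3) * q ^ 2 * (q - 1) := by
        rw [show 2 * d + d0 - 2 = 2 * d + d0 - 3 + 1 by omega, pow_succ]; ring
    _ ≤ c * (2 * (q ^ 2 - 1)) * q ^ 2 * (q - 1) :=
        Nat.mul_le_mul_right _ (Nat.mul_le_mul_right _ ((Nat.mul_le_mul_left _ hw).trans hc))
    _ = _ := by ring

/-- A line and a free point together. -/
theorem arith_line (hq : 2 ≤ q) {n c : ℕ}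
    (hn : q ^ (2 * d + d0) + c * q ≤ n)
    (hc : q ^ (d + d0) * (q ^ d - 1) ≤ q * (c * (q - 1))) :
    bnd q d d0 ≤ n * (q - 1) := by
  have e : bnd q d d0 = q ^ (2 * d + d0) * (q - 1) + q ^ (d + d0) * (q ^ d - 1) := by
    rw [bnd, show 2 * d + d0 = d + (d + d0) by omega, pow_add q d (d + d0)]
    have h1 : q ^ (d + 1) - 1 = q ^ d * (q - 1) + (q ^ d - 1) := by
      have := Nat.one_le_pow d q (by omega)
      rw [mul_tsub, mul_one, ← pow_succ]
      have := Nat.pow_le_pow_right (show 0 < q by omega) (show d ≤ d + 1 by omega)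
      omega
    rw [h1]; ring
  calc bnd q d d0 ≤ q ^ (2 * d + d0) * (q - 1) + q * (c * (q - 1)) := by omega
    _ = (q ^ (2 * d + d0) + c * q) * (q - 1) := by ring
    _ ≤ _ := Nat.mul_le_mul_right _ hn

theorem arith_twice (hq : 2 ≤ q) {n : ℕ} (hn : 2 * q ^ (2 * d + d0) ≤ n) :
    bnd q d d0 ≤ n * (q - 1) := by
  refine le_trans ?_ (Nat.mul_le_mul_right _ hn)
  rw [bnd, show 2 * d + d0 = d + (d + d0) by omega, pow_add q d (d + d0), pow_succ]
  calc (q ^ d * q - 1) * q ^ (d + d0) ≤ q ^ d * q * q ^ (d + d0) :=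
        Nat.mul_le_mul_right _ (Nat.sub_le _ _)
    _ ≤ q ^ d * (2 * (q - 1)) * q ^ (d + d0) :=
        Nat.mul_le_mul_right _ (Nat.mul_le_mul_left _ (by omega))
    _ = _ := by ring

end Cfsg.Agent.H72.OmMin
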