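import Cfsg.Agent.H53.OmLow.Stab

/-!
Orbits of the Eichler group on subspaces.
-/

set_option autoImplicit false
set_option linter.unusedSectionVars false

namespace Cfsg.Agent.H72.OmMin

open QuadraticMap Module
open Cfsg.Agent.Orthogonal Cfsg.Agent.H53.OmLow

variable {F V : Type*} [Field F] [Finite F] [AddCommGroup V] [Module F V] [FiniteDimensional F V]
variable {Q : QuadraticForm F V}

/-- The image of a subspace. -/
def im (g : sieGroup Q) (U : Submodule F V) : Submodule F V := U.map (ap g).toLinearMap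

theorem mem_im {g : sieGroup Q} {U : Submodule F V} {x : V} :
    x ∈ im g U ↔ ∃ y ∈ U, ap g y = x := Submodule.mem_map

theorem ap_mem_im (g : sieGroup Q) {U : Submodule F V} {x : V} (h : x ∈ U) : ap g x ∈ im g U :=
  mem_im.2 ⟨x, h, rfl⟩

theorem im_mul (g h : sieGroup Q) (U : Submodule F V) : im (g * h) U = im g (im h U) := by
  simp only [im, ← Submodule.map_comp]
  rfl

theorem im_one (U : Submodule F V) : im (1 : sieGroup Q) U = U := Submodule.map_id _

theorem im_inv_im (g : sieGroup Q) (U : Submodule F V) : im g⁻¹ (im g U) = U := by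
  rw [← im_mul, inv_mul_cancel, im_one]

theorem ap_inv_ap (g : sieGroup Q) (x : V) : ap g⁻¹ (ap g x) = x := by
  rw [← H53.OmLow.ap_mul, inv_mul_cancel, H53.OmLow.ap_one]

theorem ap_ap_inv (g : sieGroup Q) (x : V) : ap g (ap g⁻¹ x) = x := by
  rw [← H53.OmLow.ap_mul, mul_inv_cancel, H53.OmLow.ap_one]

theorem polar_ap (g : sieGroup Q) (x y : V) : polar Q (ap g x) (ap g y) = polar Q x y :=
  O.polar_app _ x y

theorem q_ap (g : sieGroup Q) (x : V) : Q (ap g x) = Q x := O.map_app _ x

theorem im_perp (g : sieGroup Q) (U : Submodule F V) : im g (perp Q U) = perp Q (im g U) := by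
  ext x
  rw [mem_im, mem_perp]
  constructor
  · rintro ⟨y, hy, rfl⟩ z hz
    obtain ⟨z, hz', rfl⟩ := mem_im.1 hz
    rw [polar_ap]
    exact hy z hz'
  · intro h
    refine ⟨ap g⁻¹ x, fun z hz => ?_, ap_ap_inv g x⟩
    rw [← polar_ap g, ap_ap_inv]
    exact h _ (ap_mem_im g hz)

omit [AddCommGroup V] [Module F V] [FiniteDimensional F V] in
theorem finite_V (F : Type*) {V : Type*} [Field F] [Finite F] [AddCommGroup V] [Module F V]
    [FiniteDimensional F V] : Finite V := Module.finite_of_finite F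

instance finite_sieGroup' : Finite (sieGroup Q) := by
  have : Finite V := finite_V F
  exact Finite.of_injective (fun g : sieGroup Q => (ap g : V → V))
    fun a b h => Subtype.ext (Subtype.ext (LinearEquiv.ext (congrFun h)))

theorem finite_submodule : Finite (Submodule F V) := by
  have : Finite V := finite_V F
  exact Finite.of_injective (fun U : Submodule F V => (U : Set V)) SetLike.coe_injective

/-- The number of images of a subspace. -/
noncomputable def nOrb (Q : QuadraticForm F V) (U : Submodule F V) : ℕ :=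
  Nat.card (Set.range fun g : sieGroup Q => im g U)

/-- An element producing an image. -/
noncomputable def rp {U : Submodule F V} (x : Set.range fun g : sieGroup Q => im g U) :
    sieGroup Q := Classical.choose (show ∃ g : sieGroup Q, im g U = x.1 from x.2)

theorem rp_spec {U : Submodule F V} (x : Set.range fun g : sieGroup Q => im g U) :
    im (rp x) U = x.1 := Classical.choose_spec (show ∃ g : sieGroup Q, im g U = x.1 from x.2)

theorem nOrb_le_index [Finite (sieGroup Q)] {H : Subgroup (sieGroup Q)} {U : Submodule F V}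
    (h : ∀ g ∈ H, im g U = U) : nOrb Q U ≤ H.index := by
  rw [Subgroup.index]
  refine Nat.card_le_card_of_surjective (fun x : sieGroup Q ⧸ H =>
    Quotient.liftOn' x (fun g => (⟨im g U, g, rfl⟩ : Set.range fun g : sieGroup Q => im g U))
      fun a b hab => Subtype.ext ?_) ?_
  · show im a U = im b U
    have := h _ (QuotientGroup.leftRel_apply.1 hab)
    rw [im_mul] at this
    conv_lhs => rw [← this, ← im_mul, mul_inv_cancel, im_one]
  · rintro ⟨_, g, rfl⟩
    exact ⟨QuotientGroup.mk g, rfl⟩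

theorem nOrb_mono [Finite (sieGroup Q)] {U K : Submodule F V}
    (h : ∀ g : sieGroup Q, im g U = U → im g K = K) : nOrb Q K ≤ nOrb Q U := by
  refine Nat.card_le_card_of_surjective (fun x : Set.range fun g : sieGroup Q => im g U =>
    (⟨im (rp x) K, _, rfl⟩ : Set.range fun g : sieGroup Q => im g K)) ?_
  rintro ⟨_, g, rfl⟩
  refine ⟨⟨_, g, rfl⟩, Subtype.ext ?_⟩
  set x : Set.range fun g : sieGroup Q => im g U := ⟨_, g, rfl⟩
  show im (rp x) K = im g K
  have := h (g⁻¹ * rp x) (by rw [im_mul, rp_spec, im_inv_im])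
  conv_rhs => rw [← this, ← im_mul, mul_inv_cancel_left]

theorem nOrb_perp_le (hQ : Nondeg Q) (U : Submodule F V) : nOrb Q U ≤ nOrb Q (perp Q U) :=
  nOrb_mono fun g h => by
    conv_lhs => rw [← hQ.perp_perp U, im_perp, h, hQ.perp_perp]

theorem nOrb_pos (U : Submodule F V) : 1 ≤ nOrb Q U := by
  have : Nonempty (Set.range fun g : sieGroup Q => im g U) := ⟨⟨_, 1, rfl⟩⟩
  exact Nat.card_pos

/-- The points of a subspace of value zero, without the origin. -/
noncomputable def nSing (Q : QuadraticForm F V) (U : Submodule F V) : ℕ :=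
  Nat.card {x : V // x ∈ U ∧ x ≠ 0 ∧ Q x = 0}

/-- The trace of a subspace on the orthogonal of a pair. -/
def trace (p : HP Q) (U : Submodule F V) : Submodule F p.W := U.comap p.W.subtype

theorem trace_im (hQ : Nondeg Q) (p : HP Q) (h : sieGroup (restr Q p.W)) (U : Submodule F V) :
    trace p (im (emb hQ p h) U) = im h (trace p U) := by
  have e : ∀ k : sieGroup (restr Q p.W), ∀ z : p.W,
      ap (emb hQ p k) (z : V) = ((ap k z : p.W) : V) := fun k z => emb_app hQ p k z
  ext z
  rw [trace, Submodule.mem_comap, mem_im, mem_im]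
  constructor
  · rintro ⟨y, hy, hyz⟩
    refine ⟨ap h⁻¹ z, ?_, ap_ap_inv h z⟩
    have e2 : y = ((ap h⁻¹ z : p.W) : V) := by
      rw [← e, map_inv, ← ap_inv_ap (emb hQ p h) y, hyz]
      rfl
    show ((ap h⁻¹ z : p.W) : V) ∈ U
    rwa [← e2]
  · rintro ⟨y, hy, rfl⟩
    exact ⟨(y : V), hy, e h y⟩

/-- The recursion through a singular vector of a subspace. -/
theorem nOrb_rec (hQ : Nondeg Q) (hn : 3 ≤ finrank F V) (p : HP Q) (U : Submodule F V)
    (he : p.e ∈ U) :
    nSing Q ⊤ * nOrb (restr Q p.W) (trace p U) ≤ nOrb Q U * nSing Q U := by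
  classical
  have : Finite V := finite_V F
  have : Finite (Submodule F V) := finite_submodule
  let S := {x : V // x ∈ (⊤ : Submodule F V) ∧ x ≠ 0 ∧ Q x = 0}
  let T := Σ U' : Set.range (fun g : sieGroup Q => im g U), {x : V // x ∈ U'.1 ∧ x ≠ 0 ∧ Q x = 0}
  have hT : Nat.card T = nOrb Q U * nSing Q U := by
    have e : ∀ U' : Set.range (fun g : sieGroup Q => im g U),
        Nat.card {x : V // x ∈ U'.1 ∧ x ≠ 0 ∧ Q x = 0} = nSing Q U := by
      rintro ⟨_, g, rfl⟩
      refine (Nat.card_congr ((ap g).toEquiv.subtypeEquiv fun x => ?_)).symm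
      show x ∈ U ∧ x ≠ 0 ∧ Q x = 0 ↔ ap g x ∈ im g U ∧ ap g x ≠ 0 ∧ Q (ap g x) = 0
      rw [q_ap, (ap g).map_ne_zero_iff, im, Submodule.mem_map]
      simp
    have : Fintype (Set.range (fun g : sieGroup Q => im g U)) := Fintype.ofFinite _
    rw [Nat.card_sigma, Finset.sum_congr rfl (fun U' _ => e U'), Finset.sum_const, Finset.card_univ,
      smul_eq_mul, nOrb, Nat.card_eq_fintype_card]
  rw [← hT, nOrb, nSing, ← Nat.card_prod]
  have hg : ∀ x : S, ∃ g : sieGroup Q, ∃ s : F, s ≠ 0 ∧ ap g p.e = s • x.1 := fun x => by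
    obtain ⟨g, hg, s, hs, e⟩ := exists_sie_point hQ hn p.e_ne x.2.2.1 p.he x.2.2.2
    exact ⟨⟨g, hg⟩, s, hs, e⟩
  choose gx sx hsx hgx using hg
  refine Nat.card_le_card_of_injective
    (fun a : S × Set.range (fun h : sieGroup (restr Q p.W) => im h (trace p U)) =>
      (⟨⟨im (gx a.1 * emb hQ p (rp a.2)) U, _, rfl⟩, a.1.1, ?_, a.1.2.2.1,
        a.1.2.2.2⟩ : T)) ?_
  · refine (Submodule.smul_mem_iff _ (hsx a.1)).1 ?_
    show sx a.1 • a.1.1 ∈ im (gx a.1 * emb hQ p (rp a.2)) U
    rw [← hgx, im_mul]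
    refine ap_mem_im _ ?_
    have := ap_mem_im (emb hQ p (rp a.2)) he
    rwa [show ap (emb hQ p (rp a.2)) p.e = p.e from emb_e hQ p _] at this
  · rintro ⟨x, U₁⟩ ⟨x', U₂⟩ h
    have hx : x.1 = x'.1 := congrArg (fun t : T => t.2.1) h
    obtain rfl : x = x' := Subtype.ext hx
    have hU : im (gx x * emb hQ p (rp U₁)) U =
        im (gx x * emb hQ p (rp U₂)) U := congrArg (fun t : T => t.1.1) h
    rw [im_mul, im_mul] at hU
    have h2 := congrArg (fun W => trace p (im (gx x)⁻¹ W)) hU
    simp only [im_inv_im, trace_im] at h2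
    exact Prod.ext rfl (Subtype.ext ((rp_spec U₁).symm.trans (h2.trans (rp_spec U₂))))

theorem q_smul_pm {l : F} (hl : l ^ 2 = 1) (x : V) : Q (l • x) = Q x := by
  rw [qmap_smul, hl, one_mul]

/-- Lines of anisotropic vectors: the sphere is covered by the images of a line. -/
theorem sphere_le_nOrb (hQ : Nondeg Q) (hn : 4 ≤ finrank F V ∨ (2 : F) ≠ 0 ∧ finrank F V = 3)
    (p : HP Q) {v : V} (hv : Q v ≠ 0) :
    zc Q (Q v) ≤ nOrb Q (Submodule.span F {v}) * (Nat.card F - 1) := by
  classical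
  have : Finite V := finite_V F
  have : Finite (Submodule F V) := finite_submodule
  have hu : Nat.card Fˣ = Nat.card F - 1 := Nat.card_units F
  rw [zc, nOrb, ← hu, ← Nat.card_prod]
  have key : ∀ x : {x : V // Q x = Q v}, ∃ g : sieGroup Q, ap g v = x.1 := fun x => by
    obtain ⟨g, hg, e⟩ := exists_sie_sphere' hQ hn p hv
    obtain ⟨g', hg', e'⟩ := exists_sie_sphere' hQ hn p (show Q x.1 ≠ 0 by rw [x.2]; exact hv)
    refine ⟨(⟨g', hg'⟩ : sieGroup Q)⁻¹ * ⟨g, hg⟩, ?_⟩
    have e2 : ap (⟨g, hg⟩ : sieGroup Q) v = ap (⟨g', hg'⟩ : sieGroup Q) x.1 :=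
      e.trans ((congrArg (fun c => p.e + c • p.f) x.2.symm).trans e'.symm)
    rw [H53.OmLow.ap_mul, e2, ap_inv_ap]
  refine Nat.card_le_card_of_surjective
    (fun a : Set.range (fun g : sieGroup Q => im g (Submodule.span F {v})) × Fˣ =>
      if h : Q ((a.2 : F) • ap (rp a.1) v) = Q v then
        (⟨_, h⟩ : {x : V // Q x = Q v}) else ⟨v, rfl⟩) ?_
  intro x
  obtain ⟨g, hg⟩ := key x
  set U : Set.range (fun g : sieGroup Q => im g (Submodule.span F {v})) := ⟨_, g, rfl⟩
  set a := rp U
  have h1 : im a (Submodule.span F {v}) = im g (Submodule.span F {v}) := rp_spec U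
  have h2 : x.1 ∈ im a (Submodule.span F {v}) := by
    rw [h1, ← hg]; exact ap_mem_im g (Submodule.mem_span_singleton_self v)
  obtain ⟨y, hy, hxy⟩ := mem_im.1 h2
  obtain ⟨l, rfl⟩ := Submodule.mem_span_singleton.1 hy
  rw [map_smul] at hxy
  have hl : l ≠ 0 := by
    rintro rfl
    rw [zero_smul] at hxy
    apply hv
    rw [← x.2, ← hxy, QuadraticMap.map_zero]
  refine ⟨(U, Units.mk0 l hl), (dif_pos ?_).trans (Subtype.ext hxy)⟩
  show Q (l • ap a v) = Q v
  rw [hxy]
  exact x.2

omit [FiniteDimensional F V] in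
/-- Additive subgroups are subspaces over a prime field. -/
theorem smul_mem_of_prime (hF : (Nat.card F).Prime) (A : AddSubgroup V) (a : F) {x : V}
    (hx : x ∈ A) : a • x ∈ A := by
  have : Fintype F := Fintype.ofFinite F
  have : Fact (Nat.card F).Prime := ⟨hF⟩
  have hchar : CharP F (Nat.card F) :=
    charP_of_card_eq_prime_pow (f := 1) (by rw [pow_one, Nat.card_eq_fintype_card])
  obtain ⟨k, rfl⟩ := (ZMod.castHom_bijective F
    (show Fintype.card F = Nat.card F from Nat.card_eq_fintype_card.symm)).2 a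
  obtain ⟨k, rfl⟩ : ∃ j : ℕ, (j : ZMod (Nat.card F)) = k := ⟨k.val, ZMod.natCast_zmod_val k⟩
  rw [map_natCast, Nat.cast_smul_eq_nsmul]
  exact AddSubgroup.nsmul_mem A hx k

end Cfsg.Agent.H72.OmMin
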