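import Cfsg.Agent.H72.OmMin.Subspace

/-!
Additive maps commuting with enough Eichler elements have an eigenvector.
-/

set_option autoImplicit false
set_option linter.unusedSectionVars false
set_option linter.unusedSimpArgs false

namespace Cfsg.Agent.H72.OmMin

open QuadraticMap Module
open Cfsg.Agent.Orthogonal Cfsg.Agent.H53.OmLow

variable {F V : Type*} [Field F] [Finite F] [AddCommGroup V] [Module F V] [FiniteDimensional F V]
variable {Q : QuadraticForm F V}

theorem sg_app {u w : V} (hu : Q u = 0) (hw : polar Q u w = 0) (z : V) :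
    ap (sg u w hu hw) z = z + (polar Q w z - Q w * polar Q u z) • u - polar Q u z • w :=
  sie_app hu hw z

theorem sigma_sq {σ : sieGroup Q → F} (hσ : ∀ a b, σ (a * b) = σ a + σ b) (h2 : (2 : F) = 0)
    (a : sieGroup Q) : σ (a * a) = 0 := by
  rw [hσ, ← two_mul, h2, zero_mul]

/-- Characteristic two: two orthogonal pairs. -/
theorem trap_two (h2 : (2 : F) = 0) (γ : V →+ V)
    (halt : ∀ v, polar Q (γ v) v = 0) (σ : sieGroup Q → F) (hσ : ∀ a b, σ (a * b) = σ a + σ b)
    (hcomm : ∀ k z, σ k = 0 → γ (ap k z) = ap k (γ z)) {p p' : HP Q} (ho : Orth p p') :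
    ∃ v, v ≠ 0 ∧ ∃ l : F, γ v = l • v := by
  obtain ⟨o1, o2, o3, o4⟩ := ho
  set x := p.e
  set x1 := p.f
  set y := p'.e
  set y1 := p'.f
  have qx : Q x = 0 := p.he
  have qx1 : Q x1 = 0 := p.hf
  have qy : Q y = 0 := p'.he
  have qy1 : Q y1 = 0 := p'.hf
  have b1 : polar Q x x1 = 1 := p.hef
  have b2 : polar Q y y1 = 1 := p'.hef
  have b1' : polar Q x1 x = 1 := p.hfe
  have b2' : polar Q y1 y = 1 := p'.hfe
  have o1' : polar Q y x = 0 := by rw [polar_comm]; exact o1
  have o2' : polar Q y1 x = 0 := by rw [polar_comm]; exact o2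
  have o3' : polar Q y x1 = 0 := by rw [polar_comm]; exact o3
  have o4' : polar Q y1 x1 = 0 := by rw [polar_comm]; exact o4
  have bx : polar Q x x = 0 := by rw [polar_self', qx, mul_zero]
  have bx1 : polar Q x1 x1 = 0 := by rw [polar_self', qx1, mul_zero]
  have by' : polar Q y y = 0 := by rw [polar_self', qy, mul_zero]
  have by1 : polar Q y1 y1 = 0 := by rw [polar_self', qy1, mul_zero]
  have neg' : ∀ z : V, -z = z := fun z => by
    rw [neg_eq_iff_add_eq_zero, ← two_smul F, h2, zero_smul]
  have add' : ∀ z : V, z + z = 0 := fun z => by rw [← two_smul F, h2, zero_smul]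
  set s := sg x y qx o1
  set t := sg x1 y1 qx1 o4
  set s' := sg x y1 qx o2
  set t' := sg x1 y qx1 o3
  have val : ∀ (u w : V) (hu : Q u = 0) (hw : polar Q u w = 0), Q w = 0 → ∀ z,
      ap (sg u w hu hw) z = z + polar Q w z • u + polar Q u z • w := fun u w hu hw hQw z => by
    rw [sg_app, hQw, zero_mul, sub_zero, sub_eq_add_neg, neg']
  -- the four values of each factor
  have ux : ap (s * t) x = y1 := by
    simp only [s, t, H53.OmLow.ap_mul, val, qy, qy1, polar_add_right, polar_smul_right',
      b1, b1', b2, b2', o1, o2, o3, o4, o1', o2', o3', o4', bx, bx1, by', by1, one_smul, zero_smul,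
      add_zero, zero_add]
    simp [add_right_comm, add']
  have ux1 : ap (s * t) x1 = x1 + y := by
    simp [s, t, H53.OmLow.ap_mul, val, qy, qy1, polar_add_right, polar_smul_right',
      b1, b1', b2, b2', o1, o2, o3, o4, o1', o2', o3', o4', bx, bx1, by', by1]
  have uy : ap (s * t) y = x1 := by
    simp only [s, t, H53.OmLow.ap_mul, val, qy, qy1, polar_add_right, polar_smul_right',
      b1, b1', b2, b2', o1, o2, o3, o4, o1', o2', o3', o4', bx, bx1, by', by1, one_smul, zero_smul,
      add_zero, zero_add]
    simp [add_right_comm, add']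
  have uy1 : ap (s * t) y1 = x + y1 := by
    simp [s, t, H53.OmLow.ap_mul, val, qy, qy1, polar_add_right, polar_smul_right',
      b1, b1', b2, b2', o1, o2, o3, o4, o1', o2', o3', o4', bx, bx1, by', by1, add_comm]
  have vx : ap (s' * t') x = y := by
    simp only [s', t', H53.OmLow.ap_mul, val, qy, qy1, polar_add_right, polar_smul_right',
      b1, b1', b2, b2', o1, o2, o3, o4, o1', o2', o3', o4', bx, bx1, by', by1, one_smul, zero_smul,
      add_zero, zero_add]
    simp [add_right_comm, add']
  have vx1 : ap (s' * t') x1 = x1 + y1 := by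
    simp [s', t', H53.OmLow.ap_mul, val, qy, qy1, polar_add_right, polar_smul_right',
      b1, b1', b2, b2', o1, o2, o3, o4, o1', o2', o3', o4', bx, bx1, by', by1]
  have vy1 : ap (s' * t') y1 = x1 := by
    simp only [s', t', H53.OmLow.ap_mul, val, qy, qy1, polar_add_right, polar_smul_right',
      b1, b1', b2, b2', o1, o2, o3, o4, o1', o2', o3', o4', bx, bx1, by', by1, one_smul, zero_smul,
      add_zero, zero_add]
    rw [add_right_comm, add', zero_add]
  have vy : ap (s' * t') y = x + y := by
    simp [s', t', H53.OmLow.ap_mul, val, qy, qy1, polar_add_right, polar_smul_right',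
      b1, b1', b2, b2', o1, o2, o3, o4, o1', o2', o3', o4', bx, bx1, by', by1, add_comm]
  have cancel : ∀ a c : V, a + (c + a) = c := fun a c => by
    rw [add_left_comm, add', add_zero]
  have cancel' : ∀ a c : V, a + c + a = c := fun a c => by
    rw [add_right_comm, add', zero_add]
  have Ux : ap (s * t * (s * t)) x = x + y1 := by rw [H53.OmLow.ap_mul, ux, uy1]
  have Ux1 : ap (s * t * (s * t)) x1 = y := by
    rw [H53.OmLow.ap_mul, ux1, map_add, ux1, uy, cancel']
  have Uy : ap (s * t * (s * t)) y = x1 + y := by rw [H53.OmLow.ap_mul, uy, ux1]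
  have Uy1 : ap (s * t * (s * t)) y1 = x := by
    rw [H53.OmLow.ap_mul, uy1, map_add, ux, uy1, cancel]
  have Vx : ap (s' * t' * (s' * t')) x = x + y := by rw [H53.OmLow.ap_mul, vx, vy]
  have Vx1 : ap (s' * t' * (s' * t')) x1 = y1 := by
    rw [H53.OmLow.ap_mul, vx1, map_add, vx1, vy1, cancel']
  have Vy : ap (s' * t' * (s' * t')) y = x := by
    rw [H53.OmLow.ap_mul, vy, map_add, vx, vy, cancel]
  have Vy1 : ap (s' * t' * (s' * t')) y1 = x1 + y1 := by rw [H53.OmLow.ap_mul, vy1, vx1]
  set k := (s * t) * (s * t) * ((s' * t') * (s' * t'))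
  have kx : ap k x = x + y1 + (x1 + y) := by rw [H53.OmLow.ap_mul, Vx, map_add, Ux, Uy]
  have kx1 : ap k x1 = x := by rw [H53.OmLow.ap_mul, Vx1, Uy1]
  have ky : ap k y = x + y1 := by rw [H53.OmLow.ap_mul, Vy, Ux]
  have ky1 : ap k y1 = y + x := by rw [H53.OmLow.ap_mul, Vy1, map_add, Ux1, Uy1]
  set v1 := x + x1
  set v2 := x1 + y + y1
  have himg : ∀ z, ∃ a b : F, ap k z - z = a • v1 + b • v2 := by
    intro z
    set z0 := z - polar Q x1 z • x - polar Q x z • x1 - polar Q y1 z • y - polar Q y z • y1 with hz0
    have f1 : polar Q x z0 = 0 := by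
      simp [hz0, polar_sub_right, polar_smul_right', bx, b1, o1, o2]
    have f2 : polar Q x1 z0 = 0 := by
      simp [hz0, polar_sub_right, polar_smul_right', bx1, b1', o3, o4]
    have f3 : polar Q y z0 = 0 := by
      simp [hz0, polar_sub_right, polar_smul_right', by', b2, o1', o3']
    have f4 : polar Q y1 z0 = 0 := by
      simp [hz0, polar_sub_right, polar_smul_right', by1, b2', o2', o4']
    have k0 : ap k z0 = z0 := by
      simp [k, s, t, s', t', H53.OmLow.ap_mul, val, qy, qy1, f1, f2, f3, f4]
    refine ⟨polar Q x z + polar Q y1 z + polar Q y z,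
      polar Q x1 z + polar Q y1 z + polar Q y z, ?_⟩
    have hz : z = z0 + polar Q x1 z • x + polar Q x z • x1 + polar Q y1 z • y +
        polar Q y z • y1 := by rw [hz0]; abel
    conv_lhs => rw [hz]
    simp only [map_add, map_smul, k0, kx, kx1, ky, ky1, v1, v2]
    match_scalars <;> grind
  refine ⟨v1, fun h => ?_, ?_⟩
  · have := congrArg (polar Q x) h
    rw [polar_add_right, bx, b1, zero_add, polar_zero_right] at this
    exact one_ne_zero this
  · have hk : σ k = 0 := by rw [hσ, sigma_sq hσ h2, sigma_sq hσ h2, add_zero]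
    have e : γ v1 = ap k (γ x1) - γ x1 := by
      rw [← hcomm k x1 hk, ← map_sub, kx1, sub_eq_add_neg, neg']
    obtain ⟨a, b, hab⟩ := himg (γ x1)
    rw [← e] at hab
    refine ⟨a, ?_⟩
    have h := halt v1
    rw [hab] at h ⊢
    simp only [v1, v2, polar_add_left, polar_smul_left', polar_add_right, bx, bx1, b1, b1', o1', o2',
      o3', o4', add_zero, zero_add, mul_one, mul_zero, mul_add] at h
    have hb : b = 0 := by linear_combination h - a * h2
    rw [hb, zero_smul, add_zero]

set_option maxHeartbeats 1000000 in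
/-- Odd characteristic three: a pair and an anisotropic vector. -/
theorem trap_three (h3 : (3 : F) = 0) (γ : V →+ V) (σ : sieGroup Q → F)
    (hσ : ∀ a b, σ (a * b) = σ a + σ b)
    (hcomm : ∀ k z, σ k = 0 → γ (ap k z) = ap k (γ z)) (p : HP Q) {t : V}
    (het : polar Q p.e t = 0) (hft : polar Q p.f t = 0) (hτ : Q t * Q t = 1) :
    ∃ v, v ≠ 0 ∧ ∃ l : F, γ v = l • v := by
  set e := p.e
  set f := p.f
  set τ := Q t with hτd
  have qe : Q e = 0 := p.he
  have qf : Q f = 0 := p.hf
  have hef : polar Q e f = 1 := p.hef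
  have hfe : polar Q f e = 1 := p.hfe
  have hte : polar Q t e = 0 := by rw [polar_comm]; exact het
  have htf : polar Q t f = 0 := by rw [polar_comm]; exact hft
  have bee : polar Q e e = 0 := by rw [polar_self', qe, mul_zero]
  have bff : polar Q f f = 0 := by rw [polar_self', qf, mul_zero]
  have btt : polar Q t t = -τ := by rw [polar_self', ← hτd]; linear_combination τ * h3
  set a := sg e t qe het
  set b := sg f (τ • t) qf (by rw [polar_smul_right', hft, mul_zero])
  have va : ∀ z, ap a z = z + (polar Q t z - τ * polar Q e z) • e - polar Q e z • t :=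
    fun z => sg_app _ _ z
  have vb : ∀ z, ap b z = z + (τ * polar Q t z - τ * polar Q f z) • f - polar Q f z • τ • t :=
    fun z => by
      rw [sg_app, qmap_smul, ← hτd, polar_smul_left',
        show τ ^ 2 * τ = τ by linear_combination τ * hτ]
  set k := a * b * a
  have ke : ap k e = -τ • f := by
    simp only [k, H53.OmLow.ap_mul, va, vb, map_add, map_sub, map_smul, polar_add_right,
      polar_sub_right, polar_smul_right', bee, bff, btt, hef, hfe, hte, htf, het, hft]
    match_scalars <;> grind
  have kf : ap k f = -τ • e := by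
    simp only [k, H53.OmLow.ap_mul, va, vb, map_add, map_sub, map_smul, polar_add_right,
      polar_sub_right, polar_smul_right', bee, bff, btt, hef, hfe, hte, htf, het, hft]
    match_scalars <;> grind
  have kt : ap k t = -t := by
    simp only [k, H53.OmLow.ap_mul, va, vb, map_add, map_sub, map_smul, polar_add_right,
      polar_sub_right, polar_smul_right', bee, bff, btt, hef, hfe, hte, htf, het, hft]
    match_scalars <;> grind
  have himg : ∀ z, ∃ A B : F, ap k z - z = A • (f + τ • e) + B • t := by
    intro z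
    set z0 := z - polar Q f z • e - polar Q e z • f - (-τ * polar Q t z) • t with hz0
    have f1 : polar Q e z0 = 0 := by
      simp [hz0, polar_sub_right, polar_smul_right', bee, hef, het]
    have f2 : polar Q f z0 = 0 := by
      simp [hz0, polar_sub_right, polar_smul_right', bff, hfe, hft]
    have f3 : polar Q t z0 = 0 := by
      simp [hz0, polar_sub_right, polar_smul_right', btt, hte, htf]
      linear_combination -polar Q t z * hτ
    have k0 : ap k z0 = z0 := by
      simp [k, H53.OmLow.ap_mul, va, vb, f1, f2, f3]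
    refine ⟨-(polar Q e z + τ * polar Q f z), -τ * polar Q t z, ?_⟩
    have hz : z = z0 + polar Q f z • e + polar Q e z • f + (-τ * polar Q t z) • t := by
      rw [hz0]; abel
    conv_lhs => rw [hz]
    simp only [map_add, map_smul, k0, ke, kf, kt]
    match_scalars
    all_goals grind
  have kk : ∀ z, ap k (ap k z) = z := by
    intro z
    obtain ⟨A, B, h⟩ := himg z
    have h' : ap k z = z + (A • (f + τ • e) + B • t) := by rw [← h]; abel
    have hv : ap k (f + τ • e) = -(f + τ • e) := by
      rw [map_add, map_smul, kf, ke, smul_smul, show τ * -τ = -1 by linear_combination -hτ]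
      module
    rw [h', map_add, h', map_add, map_smul, map_smul, hv, kt]
    module
  have hk : σ k = 0 := by
    have h1 : k * k = 1 := Subtype.ext (O.ext_app fun z => kk z)
    have h2 := hσ k k
    rw [h1] at h2
    have h0 : σ (1 : sieGroup Q) = 0 := by
      have := hσ 1 1
      rw [mul_one] at this
      simpa using this
    rw [h0] at h2
    linear_combination σ k * h3 + h2
  set v := τ • e + f + t with hv
  have hk' : σ (a * k * a⁻¹) = 0 := by
    have h2 := hσ a⁻¹ a
    rw [inv_mul_cancel] at h2
    rw [hσ, hσ, hk]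
    have h0 : σ (1 : sieGroup Q) = 0 := by
      have := hσ 1 1
      rw [mul_one] at this
      simpa using this
    rw [h0] at h2
    linear_combination -h2
  refine ⟨v, fun h => ?_, ?_⟩
  · have := congrArg (polar Q e) h
    simp [hv, polar_add_right, polar_smul_right', bee, hef, het] at this
  obtain ⟨A, B, hA⟩ := himg (γ (-f + t))
  rw [← hcomm k _ hk, ← map_sub] at hA
  have e1 : ap k (-f + t) - (-f + t) = v := by
    rw [map_add, map_neg, kf, kt, hv]
    match_scalars <;>
      first | ring1 | linear_combination h3 | linear_combination -h3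
  rw [e1] at hA
  set z' := ap a (-f - t) with hz'
  have e2 : ap (a * k * a⁻¹) z' - z' = v := by
    rw [H53.OmLow.ap_mul, H53.OmLow.ap_mul, hz', ap_inv_ap, ← map_sub, map_sub (ap k), map_neg, kf,
      kt, hv, va]
    simp only [polar_sub_right, polar_neg_right, polar_smul_right', bee, bff, btt, hef, hfe,
      hte, htf, het, hft]
    match_scalars
    all_goals grind
  obtain ⟨A', B', hB⟩ := himg (ap a⁻¹ (γ z'))
  have hC : γ v = ap a (A' • (f + τ • e) + B' • t) := by
    rw [← e2, map_sub γ, hcomm _ _ hk', H53.OmLow.ap_mul, H53.OmLow.ap_mul, ← hB, map_sub,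
      ap_ap_inv]
  rw [hA, map_add, map_smul, map_smul, va, va] at hC
  simp only [polar_add_right, polar_smul_right', bee, btt, hef, hte, htf, het] at hC
  have c1 := congrArg (polar Q e) hC
  have c2 := congrArg (polar Q f) hC
  have c3 := congrArg (polar Q t) hC
  simp only [polar_add_right, polar_sub_right, polar_smul_right', bee, bff, btt, hef, hfe, hte, htf,
    het, hft] at c1 c2 c3
  refine ⟨A, ?_⟩
  rw [hA, hv]
  ring_nf at c1 c2 c3
  match_scalars
  · ring
  · ring
  · have hB' : B = A := by grind
    rw [hB']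

end Cfsg.Agent.H72.OmMin
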