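import Cfsg.Agent.H72.OmMin.Lines
import Cfsg.Agent.H72.OmMin.Trap

/-!
No subgroup has radicals acting regularly on its cosets.
-/

set_option autoImplicit false
set_option linter.unusedSectionVars false

namespace Cfsg.Agent.H72.OmMin

open QuadraticMap Module
open Cfsg.Agent.Orthogonal Cfsg.Agent.H53.OmLow

variable {F V : Type*} [Field F] [Finite F] [AddCommGroup V] [Module F V] [FiniteDimensional F V]
variable {Q : QuadraticForm F V}

/-- A cocycle without fixed points on a radical gives an additive map with an impossible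
eigenvector. -/
theorem no_cocycle (hQ : Nondeg Q) {d d0 : ℕ} (hC : Case (Nat.card F) d d0) (hT : HasType Q d d0)
    (c : sieGroup Q → V) (hc : ∀ a b, c (a * b) = c a + ap a (c b)) (p : HP Q)
    (hfree : ∀ w : p.W, w ≠ 0 → ∀ z, ap (xr p w) z + c (xr p w) ≠ z) : False := by
  classical
  have hd := hC.two_le_d
  have hW := p.nd hQ
  have e : d = d - 1 + 1 := by omega
  have hTW : HasType (restr Q p.W) (d - 1) d0 := (e ▸ hT).perp_pair hQ p
  have hWn : 2 ≤ finrank F p.W := by
    have := hTW.finrank_eq hW
    rcases hC with h | h <;> omega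
  set al : p.W → F := fun w => polar Q p.f (c (xr p w))
  set be : p.W → F := fun w => polar Q p.e (c (xr p w))
  have hswap : ∀ w v : p.W, c (xr p w) + ap (xr p w) (c (xr p v)) =
      c (xr p v) + ap (xr p v) (c (xr p w)) := fun w v => by
    rw [← hc, ← hc, ← xr_add, ← xr_add, add_comm]
  have hsym : ∀ w v : p.W,
      be v • (w : V) = be w • (v : V) ∧
        polar Q (w : V) (c (xr p v)) - Q (w : V) * be v =
          polar Q (v : V) (c (xr p w)) - Q (v : V) * be w := by
    intro w v
    have h := hswap w v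
    rw [xr_app, xr_app] at h
    have h1 := congrArg (polar Q p.f) h
    simp only [polar_add_right, polar_sub_right, polar_smul_right', p.hfe, p.f_w, mul_zero,
      mul_one, sub_zero] at h1
    have h2 : polar Q (w : V) (c (xr p v)) - Q (w : V) * be v =
        polar Q (v : V) (c (xr p w)) - Q (v : V) * be w := by linear_combination h1
    refine ⟨?_, h2⟩
    rw [show polar Q (w : V) (c (xr p v)) - Q (w : V) * polar Q p.e (c (xr p v)) =
      polar Q (v : V) (c (xr p w)) - Q (v : V) * polar Q p.e (c (xr p w)) from h2] at h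
    linear_combination (norm := module) -h
  have hc1 : c 1 = 0 := by
    have h := hc 1 1
    rwa [mul_one, H53.OmLow.ap_one, left_eq_add] at h
  have hbe : ∀ w, be w = 0 := by
    intro w
    rcases eq_or_ne w 0 with rfl | hw
    · show polar Q p.e (c (xr p 0)) = 0
      rw [xr_zero, hc1, polar_zero_right]
    obtain ⟨v, hv⟩ : ∃ v : p.W, v ∉ Submodule.span F {w} := by
      by_contra h
      push Not at h
      have := Submodule.finrank_mono (show (⊤ : Submodule F p.W) ≤ _ from fun z _ => h z)
      rw [finrank_top, finrank_span_singleton hw] at this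
      omega
    by_contra hb
    have h' : be w • v = be v • w := Subtype.ext (hsym w v).1.symm
    apply hv
    refine Submodule.mem_span_singleton.2 ⟨(be w)⁻¹ * be v, ?_⟩
    rw [mul_smul, ← h', inv_smul_smul₀ hb]
  have hmem : ∀ w : p.W, c (xr p w) - al w • p.e ∈ p.W := fun w => by
    have h := p.split (c (xr p w))
    rwa [show polar Q p.e (c (xr p w)) = 0 from hbe w, zero_smul, sub_zero] at h
  set γ0 : p.W → p.W := fun w => ⟨_, hmem w⟩
  have hpol : ∀ w v : p.W,
      polar (restr Q p.W) w (γ0 v) = polar Q (w : V) (c (xr p v)) := fun w v => by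
    rw [polar_restr]
    show polar Q (w : V) (c (xr p v) - al v • p.e) = _
    rw [polar_sub_right, polar_smul_right', p.w_e, mul_zero, sub_zero]
  have hadd' : ∀ w v, c (xr p (w + v)) = c (xr p w) + c (xr p v) +
      polar Q (w : V) (c (xr p v)) • p.e := fun w v => by
    rw [xr_add, hc, xr_app, show polar Q p.e (c (xr p v)) = 0 from hbe v, mul_zero, sub_zero,
      zero_smul, sub_zero, add_assoc]
  have hal : ∀ w v, al (w + v) = al w + al v + polar Q (w : V) (c (xr p v)) := fun w v => by
    show polar Q p.f _ = _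
    rw [hadd', polar_add_right, polar_add_right, polar_smul_right', p.hfe, mul_one]
  let γ : p.W →+ p.W := AddMonoidHom.mk' γ0 fun w v => Subtype.ext (by
    show c (xr p (w + v)) - al (w + v) • p.e =
      (c (xr p w) - al w • p.e) + (c (xr p v) - al v • p.e)
    rw [hadd', hal]
    module)
  have hc' : ∀ w, c (xr p w) = al w • p.e + (γ w : V) := fun w =>
    (add_sub_cancel (al w • p.e) (c (xr p w))).symm
  have hnot : ∀ w : p.W, w ≠ 0 → ∀ l : F, γ w ≠ l • w := by
    intro w hw l hl
    obtain ⟨z0, hz0⟩ := hW.exists_polar_eq hw (l * Q (w : V) - al w)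
    rw [polar_restr] at hz0
    refine hfree w hw (l • p.f + (z0 : V)) ?_
    rw [xr_app, hc', hl, Submodule.coe_smul, polar_add_right, polar_add_right, polar_smul_right',
      polar_smul_right', p.w_f, p.hef, p.e_w, hz0]
    match_scalars <;> ring
  set σ : sieGroup (restr Q p.W) → F := fun h => polar Q p.e (c (emb hQ p h))
  have hσ : ∀ a b, σ (a * b) = σ a + σ b := fun a b => by
    show polar Q p.e (c (emb hQ p (a * b))) = _
    rw [map_mul, hc, polar_add_right]
    congr 1
    show polar Q p.e (ap (emb hQ p a) (c (emb hQ p b))) = polar Q p.e (c (emb hQ p b))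
    conv_lhs => arg 2; rw [← show ap (emb hQ p a) p.e = p.e from emb_e hQ p a]
    rw [polar_ap]
  have hcomm : ∀ (h : sieGroup (restr Q p.W)) (w : p.W), σ h = 0 →
      γ (ap h w) = ap h (γ w) := by
    intro h w hh
    have h1 := congrArg c (conj_xr hQ p h w)
    rw [hc, hc, xr_app, show polar Q p.e (c (emb hQ p h)) = 0 from hh, hc', hc', map_add, map_smul,
      show ap (emb hQ p h) p.e = p.e from emb_e hQ p h,
      show ap (emb hQ p h) (γ w : V) = ((ap h (γ w) : p.W) : V) from emb_app hQ p h (γ w)] at h1
    have h2 := congrArg (polar Q p.f) h1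
    simp only [polar_add_right, polar_smul_right', p.hfe, p.f_w, mul_zero, mul_one, sub_zero,
      add_zero, zero_smul] at h2
    refine Subtype.ext ?_
    have h3 : al w = al (ap h w) + polar Q ((ap h w : p.W) : V) (c (emb hQ p h)) := by
      linear_combination h2
    rw [h3] at h1
    linear_combination (norm := module) -h1
  rcases id hC with ⟨hF, rfl, hd3⟩ | ⟨hF, rfl, hd2⟩
  · have h2 := two_eq_zero_of_card hF
    have halt : ∀ v, polar (restr Q p.W) (γ v) v = 0 := fun v => by
      have hvv : v + v = 0 := by rw [← two_smul F, h2, zero_smul]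
      have h := hal v v
      rw [hvv] at h
      have h0 : al 0 = 0 := by
        show polar Q p.f (c (xr p 0)) = 0
        rw [xr_zero, hc1, polar_zero_right]
      rw [polar_comm]
      show polar (restr Q p.W) v (γ0 v) = 0
      rw [hpol]
      linear_combination -h + h0 - al v * h2
    obtain ⟨p1, hp1⟩ := ((show d - 1 = d - 2 + 1 by omega) ▸ hTW).exists_pair hW
    obtain ⟨p2, -⟩ := ((show d - 2 = d - 3 + 1 by omega) ▸ hp1).exists_pair (p1.nd hW)
    obtain ⟨v, hv, l, hl⟩ := trap_two h2 γ halt σ hσ hcomm (p1.orth_lift p2)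
    exact hnot v hv l hl
  · have h3 : (3 : F) = 0 := by
      have := charP_card (F := F) (by rw [hF]; exact Nat.prime_three)
      rw [hF] at this
      exact_mod_cast CharP.cast_eq_zero F 3
    obtain ⟨p1, hp1⟩ := ((show d - 1 = d - 2 + 1 by omega) ▸ hTW).exists_pair hW
    have hn1 := hp1.finrank_eq (p1.nd hW)
    obtain ⟨x, -, hx⟩ := exists_mem_ne_zero (U := (⊤ : Submodule F p1.W))
      (by rw [finrank_top]; omega)
    obtain ⟨t, ht⟩ := exists_anisotropic (p1.nd hW) hx
    rw [restr_apply] at ht
    have hτ : restr Q p.W (t : p.W) * restr Q p.W (t : p.W) = 1 := by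
      have : Fintype F := Fintype.ofFinite F
      have h := FiniteField.pow_card_sub_one_eq_one _ ht
      rw [← Nat.card_eq_fintype_card, hF] at h
      linear_combination h
    obtain ⟨v, hv, l, hl⟩ := trap_three h3 γ σ hσ hcomm p1 (p1.e_w t) (p1.f_w t) hτ
    exact hnot v hv l hl

/-- Every proper subgroup has index at least the bound. -/
theorem index_bound (hQ : Nondeg Q) {d d0 : ℕ} (hC : Case (Nat.card F) d d0)
    (hT : HasType Q (d + 1) d0) {H : Subgroup (sieGroup Q)} (hH : H ≠ ⊤) :
    bnd (Nat.card F) d d0 ≤ H.index * (Nat.card F - 1) := by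
  by_contra hlt
  push Not at hlt
  have hd := hC.two_le_d
  obtain ⟨p, hTW⟩ := hT.exists_pair hQ
  obtain ⟨p', -⟩ := ((show d = d - 1 + 1 by omega) ▸ hTW).exists_pair (p.nd hQ)
  set ω : sieGroup Q ⧸ H := QuotientGroup.mk 1
  have hreg := regular hQ hC hT hH hlt p ω
  choose c hc using fun l : sieGroup (restr Q p.W) => hreg (emb hQ p l • ω)
  have hinj : ∀ a b : p.W, xr p a • ω = xr p b • ω → a = b := fun a b h => by
    have := (xr_smul_eq_iff (case_prime hC) p ω).1 h
    rwa [all_free hQ hC hT hH hlt p ω, Submodule.mem_bot, sub_eq_zero] at this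
  have key : ∀ (l : sieGroup (restr Q p.W)) (z : p.W),
      emb hQ p l • xr p z • ω = xr p (ap l z + c l) • ω := fun l z => by
    rw [← mul_smul, conj_xr hQ p l z, mul_smul, ← hc, ← mul_smul, ← xr_add]
  refine no_cocycle (p.nd hQ) hC hTW c (fun a b => ?_) p' fun w hw z hz => hw ?_
  · apply hinj
    rw [hc, map_mul, mul_smul, ← hc b, key, add_comm]
  · have e : emb hQ p (xr p' w) • xr p z • ω = xr p z • ω := by rw [key, hz]
    have hm : ((w : p.W) : V) ∈ (p.lift p').W :=
      (p.lift p').mem_W.2 ⟨(polar_restr p.W p'.e (w : p.W)).symm.trans (p'.e_w w),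
        (polar_restr p.W p'.f (w : p.W)).symm.trans (p'.f_w w)⟩
    have h2 : xr (p.lift p') ⟨_, hm⟩ • xr p z • ω = xr p z • ω := by
      rw [show xr (p.lift p') ⟨_, hm⟩ = emb hQ p (xr p' w) from (emb_sg hQ p p'.he (p'.e_w w)).symm]
      exact e
    have h3 := (mem_Xst (case_prime hC) (p.lift p') _).2 h2
    rw [all_free hQ hC hT hH hlt (p.lift p') (xr p z • ω), Submodule.mem_bot] at h3
    exact Subtype.ext (Subtype.ext (congrArg (fun y : (p.lift p').W => (y : V)) h3))

end Cfsg.Agent.H72.OmMin
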