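import Cfsg.Agent.H72.OmMin.Cocycle
import Cfsg.Agent.Orthogonal.POmega
import Cfsg.Agent.Orthogonal.StdForms

/-!
The minimal index, and the passage to the projective groups.
-/

set_option autoImplicit false
set_option linter.unusedSectionVars false

namespace Cfsg.Agent.H72.OmMin

open QuadraticMap Module
open Cfsg.Agent.Orthogonal Cfsg.Agent.H53.OmLow

section Exist

variable {F V : Type*} [Field F] [Finite F] [AddCommGroup V] [Module F V] [FiniteDimensional F V]
variable {Q : QuadraticForm F V}

/-- A value missed by the kernel. -/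
theorem exists_missed {k d0 : ℕ} {e f : Fin k → V}
    (ha : Aniso Q (IsFrame.kernel Q e f)) (hd : finrank F (IsFrame.kernel Q e f) = d0)
    (hC : (Nat.card F = 2 ∧ d0 = 0) ∨ (Nat.card F = 3 ∧ d0 = 1)) :
    ∃ c : F, c ≠ 0 ∧ sphereCard Q (IsFrame.kernel Q e f) c = 0 := by
  rcases hC with ⟨-, rfl⟩ | ⟨hF, rfl⟩
  · refine ⟨1, one_ne_zero, ?_⟩
    have : IsEmpty {x : IsFrame.kernel Q e f // Q (x : V) = 1} := ⟨fun ⟨x, hx⟩ => by
      have h0 : (x : V) = 0 := by
        have := Submodule.finrank_eq_zero.1 hd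
        exact (Submodule.mem_bot F).1 (this ▸ x.2)
      rw [h0, QuadraticMap.map_zero] at hx
      exact zero_ne_one hx⟩
    exact Nat.card_of_isEmpty
  · have h2 := two_ne_zero_of_card hF
    obtain ⟨t, ht, ht0⟩ := exists_mem_ne_zero hd.ge
    have hτ : Q t ≠ 0 := fun h => ht0 (ha t ht h)
    refine ⟨-Q t, neg_ne_zero.2 hτ, ?_⟩
    have : IsEmpty {x : IsFrame.kernel Q e f // Q (x : V) = -Q t} := ⟨fun ⟨x, hx⟩ => by
      have hspan : IsFrame.kernel Q e f = Submodule.span F {t} :=
        (Submodule.eq_of_le_of_finrank_eq ((Submodule.span_singleton_le_iff_mem _ _).2 ht)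
          (by rw [finrank_span_singleton ht0, hd])).symm
      obtain ⟨l, hl⟩ := Submodule.mem_span_singleton.1 (show (x : V) ∈ Submodule.span F {t} from
        hspan ▸ x.2)
      rw [← hl, qmap_smul] at hx
      rcases eq_or_ne l 0 with rfl | hl0
      · rw [zero_pow two_ne_zero, zero_mul, eq_comm, neg_eq_zero] at hx
        exact hτ hx
      have : Fintype F := Fintype.ofFinite F
      have h := FiniteField.pow_card_sub_one_eq_one l hl0
      rw [← Nat.card_eq_fintype_card, hF] at h
      rw [h, one_mul, eq_neg_iff_add_eq_zero, ← two_mul] at hx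
      exact hτ ((mul_eq_zero.1 hx).resolve_left h2)⟩
    exact Nat.card_of_isEmpty

/-- The stabiliser of a non-singular line attains the bound. -/
theorem exists_index (hQ : Nondeg Q) {d d0 : ℕ} (hC : Case (Nat.card F) d d0)
    (hT : HasType Q (d + 1) d0) :
    ∃ H : Subgroup (sieGroup Q), H.index * (Nat.card F - 1) = bnd (Nat.card F) d d0 := by
  classical
  have : Finite V := finite_V F
  have : Finite (Submodule F V) := finite_submodule
  have hq := hC.two_le
  obtain ⟨p, -⟩ := hT.exists_pair hQ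
  have hn := hT.finrank_eq hQ
  obtain ⟨e, f, hf, ha, hd⟩ := hT
  obtain ⟨c, hc0, hc⟩ := exists_missed ha hd (by rcases hC with h | h <;> simp [h.1, h.2.1])
  obtain ⟨hs1, hs2⟩ := sphereCard_frame hf c
  rw [natCard_eq_pow, ← pow_add, sphereCard_top, hc, hd, mul_zero, add_zero] at hs1
  rw [natCard_eq_pow, ← pow_add, hd] at hs2
  have hz : zc Q c = bnd (Nat.card F) d d0 := by
    refine Nat.eq_of_mul_eq_mul_left (show 0 < Nat.card F by omega) ?_
    have hpd : Nat.card F ^ (d + 1 + d0) = Nat.card F * Nat.card F ^ (d + d0) := by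
      rw [← pow_succ']; congr 1; omega
    have hp2 : Nat.card F ^ (2 * (d + 1) + d0) =
        Nat.card F ^ (d + 1) * (Nat.card F * Nat.card F ^ (d + d0)) := by
      rw [← pow_succ', ← pow_add]; congr 1; omega
    rw [hs2, hp2, hpd] at hs1
    rw [bnd, ← mul_assoc, mul_comm (Nat.card F) (_ - 1), mul_assoc, tsub_mul, one_mul, zc]
    omega
  obtain ⟨v, hv⟩ : ∃ v : V, Q v = c := by
    by_contra h
    push Not at h
    have : IsEmpty {x : V // Q x = c} := ⟨fun x => h x.1 x.2⟩
    rw [zc, Nat.card_of_isEmpty, bnd] at hz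
    exact absurd hz.symm (Nat.mul_ne_zero (sub_one_pos hq (by omega)).ne'
      (pow_ne_zero _ (by omega)))
  set U : Submodule F V := Submodule.span F {v}
  let H : Subgroup (sieGroup Q) :=
    { carrier := {g | im g U = U}
      mul_mem' := fun {a b} ha hb => by
        show im (a * b) U = U
        rw [im_mul, show im b U = U from hb, show im a U = U from ha]
      one_mem' := im_one U
      inv_mem' := fun {a} ha => by
        show im a⁻¹ U = U
        conv_lhs => rw [← show im a U = U from ha, im_inv_im] }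
  have h1 : nOrb Q U ≤ H.index := nOrb_le_index fun g hg => hg
  have h2 : H.index ≤ nOrb Q U := by
    rw [Subgroup.index]
    refine Nat.card_le_card_of_surjective (fun x : Set.range (fun g : sieGroup Q => im g U) =>
      (QuotientGroup.mk (rp x) : sieGroup Q ⧸ H)) fun y => ?_
    obtain ⟨g, rfl⟩ := QuotientGroup.mk_surjective y
    obtain ⟨x, hx⟩ : ∃ x : Set.range (fun g : sieGroup Q => im g U), x.1 = im g U :=
      ⟨⟨_, g, rfl⟩, rfl⟩
    refine ⟨x, QuotientGroup.eq.2 ?_⟩
    show im ((rp x)⁻¹ * g) U = U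
    rw [im_mul, ← hx, ← rp_spec x, im_inv_im]
  have h3 := sphere_le_nOrb hQ (Or.inl (by have := hC.two_le_d; omega)) p
    (show Q v ≠ 0 by rw [hv]; exact hc0)
  have h4 : nOrb Q U * (Nat.card F - 1) ≤ zc Q c := by
    have hu : Nat.card Fˣ = Nat.card F - 1 := Nat.card_units F
    rw [nOrb, ← hu, zc, ← Nat.card_prod]
    have hsq : ∀ l : Fˣ, (l : F) ^ 2 = 1 := fun l => by
      have : Fintype F := Fintype.ofFinite F
      have h := FiniteField.pow_card_sub_one_eq_one (l : F) l.ne_zero
      rw [← Nat.card_eq_fintype_card] at h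
      rcases hC with ⟨hF, -⟩ | ⟨hF, -⟩ <;> rw [hF] at h
      · rw [pow_one] at h; rw [h, one_pow]
      · exact h
    refine Nat.card_le_card_of_injective (fun a => (⟨(a.2 : F) • ap (rp a.1) v, by
      rw [qmap_smul, hsq, one_mul, q_ap, hv]⟩ : {x : V // Q x = c})) ?_
    rintro ⟨W1, l1⟩ ⟨W2, l2⟩ h
    have h' : (l1 : F) • ap (rp W1) v = (l2 : F) • ap (rp W2) v := congrArg Subtype.val h
    have hW : ∀ (X : Set.range fun g : sieGroup Q => im g U) (l : Fˣ),
        Submodule.span F {(l : F) • ap (rp X) v} = X.1 := fun X l => by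
      rw [Submodule.span_singleton_smul_eq l.ne_zero.isUnit, ← rp_spec X, im, Submodule.map_span,
        Set.image_singleton]
      rfl
    have hWW : W1 = W2 := Subtype.ext (by rw [← hW W1 l1, h', hW])
    subst hWW
    have hne : ap (rp W1) v ≠ 0 :=
      (ap (rp W1)).map_ne_zero_iff.2 fun h0 => hc0 (by rw [← hv, h0, QuadraticMap.map_zero])
    exact Prod.ext rfl (Units.ext (smul_left_injective F hne h'))
  refine ⟨H, ?_⟩
  rw [hv] at h3
  rw [← hz, le_antisymm h2 h1]
  exact le_antisymm h4 h3

end Exist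

section Transfer

variable {F : Type*} [Field F] [Finite F] {ι : Type} [Fintype ι] [DecidableEq ι]

/-- With trivial centre the projective group is the Eichler group. -/
theorem exists_equiv (Q : QuadraticForm F (ι → F)) (hQ : Nondeg Q) (hn : 5 ≤ finrank F (ι → F))
    (hc : Nat.card (Subgroup.center (Cfsg.Omega F (⇑Q))) = 1) :
    Nonempty (Cfsg.POmega F (⇑Q) ≃* sieGroup Q) := by
  have hb := Subgroup.card_eq_one.1 hc
  exact ⟨((QuotientGroup.quotientMulEquivOfEq hb).trans QuotientGroup.quotientBot).trans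
    ((omegaEquiv Q).trans (MulEquiv.subgroupCongr (sieGroup_eq_commutator hQ hn).symm))⟩

/-- The two halves, on a group isomorphic to the Eichler group. -/
theorem main {G : Type*} [Group G] (Q : QuadraticForm F (ι → F)) (hQ : Nondeg Q) {d d0 : ℕ}
    (hC : Case (Nat.card F) d d0) (hT : HasType Q (d + 1) d0) (e : G ≃* sieGroup Q) :
    (∀ H : Subgroup G, H ≠ ⊤ → bnd (Nat.card F) d d0 ≤ H.index * (Nat.card F - 1)) ∧
      ∃ H : Subgroup G, H.index * (Nat.card F - 1) = bnd (Nat.card F) d d0 := by
  refine ⟨fun H hH => ?_, ?_⟩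
  · rw [← Subgroup.index_map_equiv H e]
    refine index_bound hQ hC hT fun h => hH ?_
    rw [← Subgroup.map_top_of_surjective e.toMonoidHom e.surjective] at h
    exact Subgroup.map_injective e.injective h
  · obtain ⟨H, hH⟩ := exists_index hQ hC hT
    refine ⟨H.map e.symm.toMonoidHom, ?_⟩
    rw [← hH]
    exact congrArg (· * (Nat.card F - 1)) (Subgroup.index_map_equiv H e.symm)

end Transfer

end Cfsg.Agent.H72.OmMin
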