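import Cfsg.Agent.H72.OmMin.Plane

/-!
Orbits of subspaces of the orthogonal of a pair.
-/

set_option autoImplicit false
set_option linter.unusedSectionVars false

namespace Cfsg.Agent.H72.OmMin

open QuadraticMap Module
open Cfsg.Agent.Orthogonal Cfsg.Agent.H53.OmLow

section Field

variable {F : Type*} [Field F] [Finite F]

theorem case_prime {d d0 : ℕ} (hC : Case (Nat.card F) d d0) : (Nat.card F).Prime := by
  rcases hC with ⟨h, -⟩ | ⟨h, -⟩ <;> rw [h] <;> norm_num

theorem charP_card (h : (Nat.card F).Prime) : CharP F (Nat.card F) := by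
  have : Fintype F := Fintype.ofFinite F
  have : Fact (Nat.card F).Prime := ⟨h⟩
  exact charP_of_card_eq_prime_pow (f := 1) (by rw [pow_one, Nat.card_eq_fintype_card])

theorem two_eq_zero_of_card (h : Nat.card F = 2) : (2 : F) = 0 := by
  have : CharP F 2 := by
    have h' := charP_card (F := F) (by rw [h]; exact Nat.prime_two)
    rwa [h] at h'
  exact CharTwo.two_eq_zero

theorem two_ne_zero_of_card (h : Nat.card F = 3) : (2 : F) ≠ 0 := by
  have : CharP F 3 := by
    have h' := charP_card (F := F) (by rw [h]; exact Nat.prime_three)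
    rwa [h] at h'
  intro h2
  have h3 : ((2 : ℕ) : F) = 0 := by exact_mod_cast h2
  rw [CharP.cast_eq_zero_iff F 3] at h3
  omega

theorem eq_one_of_card_two (h : Nat.card F = 2) {a : F} (ha : a ≠ 0) : a = 1 := by
  have : Fintype F := Fintype.ofFinite F
  have := FiniteField.pow_card_sub_one_eq_one a ha
  rwa [← Nat.card_eq_fintype_card, h, pow_one] at this

end Field

variable {F V : Type*} [Field F] [Finite F] [AddCommGroup V] [Module F V] [FiniteDimensional F V]
variable {Q : QuadraticForm F V}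

theorem card_two_ker (hq : Nat.card F = 2) {U : Submodule F V}
    (hadd : ∀ x ∈ U, ∀ y ∈ U, polar Q x y = 0) {r : V} (hr : r ∈ U) (hQr : Q r ≠ 0)
    (h0 : ∀ x ∈ U, Q x = 0 → x = 0) : U = Submodule.span F {r} := by
  refine le_antisymm (fun x hx => ?_) ((Submodule.span_singleton_le_iff_mem _ _).2 hr)
  by_cases hQx : Q x = 0
  · rw [h0 x hx hQx]; exact zero_mem _
  · have h2 := two_eq_zero_of_card hq
    have h := h0 (x + r) (U.add_mem hx hr) (by
      rw [map_add_polar, hadd x hx r hr, eq_one_of_card_two hq hQx, eq_one_of_card_two hq hQr,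
        add_zero, one_add_one_eq_two, h2])
    rw [eq_neg_of_add_eq_zero_left h]
    exact Submodule.neg_mem _ (Submodule.mem_span_singleton_self r)

/-- In characteristic two the polar form of three dimensions degenerates. -/
theorem false_of_three (hQ : Nondeg Q) (h2 : (2 : F) = 0) (h3 : finrank F V = 3) : False := by
  set b := finBasisOfFinrankEq F V h3
  set v := polar Q (b 1) (b 2) • b 0 + polar Q (b 2) (b 0) • b 1 + polar Q (b 0) (b 1) • b 2 with hv
  have h0 : v = 0 := by
    refine hQ v fun y => ?_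
    rw [← polarBilin_apply', ← b.sum_repr y, map_sum, Fin.sum_univ_three, map_smul, map_smul,
      map_smul]
    simp only [polarBilin_apply', hv, polar_add_left, polar_smul_left', polar_self', h2, zero_mul,
      mul_zero, smul_eq_mul, polar_comm (⇑Q) (b 1) (b 0), polar_comm (⇑Q) (b 2) (b 1),
      polar_comm (⇑Q) (b 0) (b 2)]
    ring_nf
    simp only [h2, mul_zero, add_zero]
  have hli := Fintype.linearIndependent_iff.1 b.linearIndependent
    ![polar Q (b 1) (b 2), polar Q (b 2) (b 0), polar Q (b 0) (b 1)] (by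
      rw [Fin.sum_univ_three]; exact h0)
  obtain ⟨y, hy⟩ := hQ.exists_polar_ne (b.ne_zero 0)
  apply hy
  rw [← polarBilin_apply', ← b.sum_repr y, map_sum, Fin.sum_univ_three, map_smul, map_smul,
    map_smul]
  have e1 : polar Q (b 0) (b 1) = 0 := hli 2
  have e2 : polar Q (b 2) (b 0) = 0 := hli 1
  simp [h2, e1, polar_comm (⇑Q) (b 0) (b 2), e2]

variable {d d0 : ℕ}

/-- Orbits of subspaces, degenerate case with a singular radical vector. -/
theorem singRad_bound (hQ : Nondeg Q) (hC : Case (Nat.card F) d d0) (hT : HasType Q d d0)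
    {Y K : Submodule F V} (hk : 2 ≤ finrank F Y) (hKR : K ≤ Y ⊓ perp Q Y)
    (hK : TotSing Q K) (hK0 : K ≠ ⊥) (hmax : ∀ x ∈ Y ⊓ perp Q Y, Q x = 0 → x ∈ K)
    (hc : nOrb Q K ≤ nOrb Q Y) :
    bnd (Nat.card F) d d0 ≤ nOrb Q Y * Nat.card F ^ finrank F Y * (Nat.card F - 1) := by
  classical
  have hd := hC.two_le_d
  have hq := hC.two_le
  have hd0 : d0 ≤ 1 := by rcases hC with h | h <;> omega
  have hn := hT.finrank_eq hQ
  have hn5 : 5 ≤ finrank F V := by rcases hC with h | h <;> omega
  have hj : 1 ≤ finrank F K := Submodule.one_le_finrank_iff.2 hK0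
  have hjk : finrank F K ≤ finrank F Y := Submodule.finrank_mono (hKR.trans inf_le_left)
  have hjd := finrank_totSing_le hQ hT hd0 hK
  rcases Nat.lt_or_ge (finrank F K) 2 with hj1 | hj2
  swap
  · have e : d = d - 2 + 2 := by omega
    have h := two_steps hQ (e ▸ hT) hd0 hn5 hK hj2
    rw [show d - 2 + 1 = d - 1 by omega] at h
    refine (arith_rad hC hj2 hjd hjk h).trans ?_
    exact Nat.mul_le_mul_right _ (Nat.mul_le_mul_right _ hc)
  have hj' : finrank F K = 1 := by omega
  have e : d = d - 1 + 1 := by omega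
  rcases Nat.lt_or_ge (finrank F Y) 3 with hk2 | hk3
  swap
  · have h := one_step_type hQ (by omega) (e ▸ hT) hd0 hK hj
    rw [hj', pow_one] at h
    refine (arith_point hC hk3 h).trans ?_
    exact Nat.mul_le_mul_right _ (Nat.mul_le_mul_right _ hc)
  have hk' : finrank F Y = 2 := by omega
  obtain ⟨r, hrK, hr0⟩ := exists_mem_ne_zero hj
  have hQr : Q r = 0 := hK r hrK
  have hrY := (hKR hrK).1
  have hrp : ∀ y ∈ Y, polar Q y r = 0 := (hKR hrK).2
  obtain ⟨f, hf, hrf⟩ := hQ.exists_partner hr0 hQr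
  set p : HP Q := ⟨r, f, hQr, hf, hrf⟩
  obtain ⟨y0, hy0, hy0K⟩ : ∃ y ∈ Y, y ∉ K := SetLike.not_le_iff_exists.1 fun h => by
    have := Submodule.finrank_mono h
    omega
  have hKs : K = Submodule.span F {r} :=
    (Submodule.eq_of_le_of_finrank_eq ((Submodule.span_singleton_le_iff_mem _ _).2 hrK)
      (by rw [finrank_span_singleton hr0, hj'])).symm
  have hYs : Y = Submodule.span F {r, y0} := by
    refine (Submodule.eq_of_le_of_finrank_le (Submodule.span_le.2 ?_) ?_).symm
    · rintro x (rfl | rfl)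
      exacts [hrY, hy0]
    · have hlt : K < Submodule.span F {r, y0} := by
        refine lt_of_le_of_ne (hKs ▸ Submodule.span_mono (by simp)) fun h => hy0K ?_
        rw [h]; exact Submodule.subset_span (by simp)
      have := Submodule.finrank_lt_finrank_of_lt hlt
      omega
  have hB : ∀ a b : F, Q (a • r + b • y0) = b ^ 2 * Q y0 := fun a b => by
    rw [map_add_polar, qmap_smul, qmap_smul, hQr, polar_smul_left', polar_smul_right',
      polar_comm (⇑Q) r, hrp y0 hy0]
    ring
  have hQy0 : Q y0 ≠ 0 := by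
    intro h
    have h0 : ∀ x ∈ Y, Q x = 0 := fun x hx => by
      rw [hYs] at hx
      obtain ⟨a, b, rfl⟩ := Submodule.mem_span_pair.1 hx
      rw [hB, h, mul_zero]
    refine hy0K (hmax y0 ⟨hy0, fun y hy => ?_⟩ h)
    have := h0 _ (Y.add_mem hy hy0)
    rwa [map_add_polar, h0 y hy, h, zero_add, zero_add] at this
  have hS : nSing Q Y = nSing Q K := by
    refine Nat.card_congr (Equiv.subtypeEquivRight fun x => ?_)
    constructor
    · rintro ⟨hx, hx0, hQx⟩
      refine ⟨?_, hx0, hQx⟩
      rw [hYs] at hx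
      obtain ⟨a, b, rfl⟩ := Submodule.mem_span_pair.1 hx
      rw [hB] at hQx
      have hb : b = 0 := pow_eq_zero_iff two_ne_zero |>.1 ((mul_eq_zero.1 hQx).resolve_right hQy0)
      rw [hb, zero_smul, add_zero]
      exact K.smul_mem _ hrK
    · exact fun ⟨hx, h⟩ => ⟨(hKR hx).1, h⟩
  have h := nOrb_rec hQ (by omega) p Y hrY
  have hK' := nSing_totSing hK
  rw [hS, show nSing Q K = Nat.card F - 1 by rw [hj', pow_one] at hK'; omega,
    nSing_type hQ (e ▸ hT) hd0] at h
  have hy1 : y0 - polar Q f y0 • r ∈ p.W := by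
    rw [p.mem_W]
    show polar Q r _ = 0 ∧ polar Q f _ = 0
    rw [polar_sub_right, polar_sub_right, polar_smul_right', polar_smul_right', polar_self', hQr,
      polar_comm (⇑Q) r, hrp y0 hy0, polar_comm (⇑Q) f r, hrf]
    constructor <;> ring
  set y1 : p.W := ⟨_, hy1⟩
  have htr : trace p Y = Submodule.span F {y1} := by
    refine le_antisymm (fun z hz => ?_) ((Submodule.span_singleton_le_iff_mem _ _).2 ?_)
    · have hz' : (z : V) ∈ Y := hz
      rw [hYs] at hz'
      obtain ⟨a, b, hab⟩ := Submodule.mem_span_pair.1 hz'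
      refine Submodule.mem_span_singleton.2 ⟨b, Subtype.ext ?_⟩
      have hfz : polar Q f (z : V) = 0 := p.f_w z
      rw [← hab, polar_add_right, polar_smul_right', polar_smul_right', polar_comm (⇑Q) f r, hrf,
        mul_one] at hfz
      show b • (y0 - polar Q f y0 • r) = (z : V)
      rw [← hab, eq_neg_of_add_eq_zero_left hfz]
      module
    · exact Y.sub_mem hy0 (Y.smul_mem _ hrY)
  have hQy1 : restr Q p.W y1 = Q y0 := by
    show Q (y0 - polar Q f y0 • r) = Q y0
    rw [qmap_sub, qmap_smul, hQr, polar_smul_right', hrp y0 hy0]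
    ring
  have hT' := hT
  rw [e] at hT'
  have hTW := hT'.perp_pair hQ p
  obtain ⟨p', -⟩ := ((show d - 1 = d - 2 + 1 by omega) ▸ hTW).exists_pair (p.nd hQ)
  have hWn := p.finrank_W hQ
  have hn' : 4 ≤ finrank F p.W ∨ (2 : F) ≠ 0 ∧ finrank F p.W = 3 := by
    rcases hC with ⟨h1, h2, h3⟩ | ⟨h1, h2, h3⟩
    · left; omega
    · rcases Nat.lt_or_ge d 3 with h4 | h4
      · exact Or.inr ⟨two_ne_zero_of_card h1, by omega⟩
      · left; omega
  have hs := sphere_le_nOrb (p.nd hQ) hn' p' (v := y1) (by rw [hQy1]; exact hQy0)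
  rw [htr] at h
  rw [hk']
  refine arith_point_two hC (zc_lower hTW (restr Q p.W y1)) ?_
  refine (Nat.mul_le_mul_left _ hs).trans ?_
  rw [← mul_assoc]
  exact Nat.mul_le_mul_right _ h

/-- Orbits of subspaces, non-degenerate case. -/
theorem nondeg_bound (hQ : Nondeg Q) (hC : Case (Nat.card F) d d0) (hT : HasType Q d d0)
    {Y : Submodule F V} (hY : Nondeg (restr Q Y)) (hk : 2 ≤ finrank F Y)
    (hk' : finrank F Y < finrank F V) :
    bnd (Nat.card F) d d0 ≤ nOrb Q Y * Nat.card F ^ finrank F Y * (Nat.card F - 1) := by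
  classical
  have hd := hC.two_le_d
  have hq := hC.two_le
  have hn := hT.finrank_eq hQ
  have hn5 : 5 ≤ finrank F V := by rcases hC with h | h <;> omega
  have hP := hQ.nondeg_perp hY
  have hPn := hQ.finrank_add_perp Y
  have hd' := (nondeg_restr_iff Y).1 hY
  rcases Nat.lt_or_ge (finrank F Y) 3 with hk2 | hk3
  swap
  · obtain ⟨x, hx, hx0⟩ := exists_mem_ne_zero (show 1 ≤ finrank F (perp Q Y) by omega)
    obtain ⟨b, hb⟩ := exists_anisotropic hP (x := ⟨x, hx⟩) (fun h => hx0 (congrArg Subtype.val h))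
    obtain ⟨a, ha⟩ := hY.exists_value hk (-Q (b : V))
    rw [restr_apply] at hb ha
    have hb0 : (b : V) ≠ 0 := fun h => hb (by rw [h]; exact QuadraticMap.map_zero _)
    have ha0 : (a : V) ≠ 0 := fun h => hb (by
      rw [h, QuadraticMap.map_zero] at ha; exact neg_eq_zero.1 ha.symm)
    obtain ⟨h1, h2⟩ := nondeg_step hQ hY a.2 ha0 b.2 hb0 (by rw [ha, neg_add_cancel])
    refine arith_large hC ?_
    rw [hn] at h1 h2
    rcases hC with ⟨hF, rfl, hd3⟩ | ⟨hF, rfl, hd2⟩
    · have hk4 : 4 ≤ finrank F Y := by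
        by_contra h
        exact false_of_three hY (two_eq_zero_of_card hF) (by omega)
      calc Nat.card F ^ (2 * d + 0 + 1)
          = Nat.card F ^ (0 + 2 * d - 2) * Nat.card F ^ 3 := by rw [← pow_add]; congr 1; omega
        _ ≤ nOrb Q Y * Nat.card F * Nat.card F ^ 3 := Nat.mul_le_mul_right _ h1
        _ = nOrb Q Y * Nat.card F ^ 4 := by ring
        _ ≤ _ := Nat.mul_le_mul_left _ (Nat.pow_le_pow_right (by omega) hk4)
    · have h3 := h2 (by
        rw [ha]; exact mul_ne_zero (two_ne_zero_of_card hF) (neg_ne_zero.2 hb))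
      calc Nat.card F ^ (2 * d + 1 + 1)
          = Nat.card F ^ (1 + 2 * d - 2) * Nat.card F ^ 3 := by rw [← pow_add]; congr 1; omega
        _ ≤ nOrb Q Y * Nat.card F ^ 3 := Nat.mul_le_mul_right _ h3
        _ ≤ _ := Nat.mul_le_mul_left _ (Nat.pow_le_pow_right (by omega) hk3)
  have hk'' : finrank F Y = 2 := by omega
  rw [hk'']
  -- an anisotropic vector of the plane and a second one
  obtain ⟨x, hx, hx0⟩ := exists_mem_ne_zero (show 1 ≤ finrank F Y by omega)
  obtain ⟨u, hu⟩ := exists_anisotropic hY (x := ⟨x, hx⟩) (fun h => hx0 (congrArg Subtype.val h))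
  rw [restr_apply] at hu
  have hu0 : (u : V) ≠ 0 := fun h => hu (by rw [h]; exact QuadraticMap.map_zero _)
  rcases id hC with ⟨hF, rfl, hd3⟩ | ⟨hF, rfl, hd2⟩
  · have h2 := two_eq_zero_of_card hF
    have hu1 : Q (u : V) = 1 := eq_one_of_card_two hF hu
    obtain ⟨v0, hv0⟩ := hY.exists_polar_eq (x := u) (fun h => hu0 (congrArg Subtype.val h)) 1
    rw [polar_restr] at hv0
    obtain ⟨b, hb⟩ := hP.exists_value (by omega) 1
    rw [restr_apply] at hb
    have hub : polar Q (u : V) b = 0 := b.2 u u.2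
    have he : Q ((u : V) + b) = 0 := by
      rw [map_add_polar, hu1, hb, hub, add_zero, one_add_one_eq_two, h2]
    have hev : polar Q ((u : V) + b) v0 = 1 := by
      rw [polar_add_left, hv0, polar_comm (⇑Q) (b : V), b.2 v0 v0.2, add_zero]
    have he0 : (u : V) + b ≠ 0 := fun h => by
      rw [h, polar_zero_left] at hev; exact zero_ne_one hev
    obtain ⟨f, hf, hef⟩ := hQ.exists_partner he0 he
    have h := plane_step hQ (by omega) hY hk'' u.2 v0.2 hu
      (fun h => by rw [h, polar_zero_right] at hv0; exact zero_ne_one hv0)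
      ⟨_, f, he, hf, hef⟩
      (show polar Q ((u : V) + b) u = 0 by
        rw [polar_add_left, polar_self', h2, zero_mul, polar_comm (⇑Q) (b : V), hub, add_zero])
      (show polar Q ((u : V) + b) v0 ≠ 0 by rw [hev]; exact one_ne_zero) (k := 2)
      (Or.inl hF.le)
    refine arith_plane hC (zc_lower hT (Q (u : V))) (w := Nat.card F ^ (2 * d + 0 - 3)) le_rfl ?_
    rw [show finrank F V - 3 = 2 * d + 0 - 3 by omega] at h
    refine h.trans (le_of_eq ?_)
    ring
  · have h2 := two_ne_zero_of_card hF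
    have huu : polar Q (u : V) u ≠ 0 := by rw [polar_self']; exact mul_ne_zero h2 hu
    obtain ⟨w, hw⟩ : ∃ w : Y, w ∉ Submodule.span F {u} := by
      by_contra h
      push Not at h
      have := Submodule.finrank_mono (show (⊤ : Submodule F Y) ≤ _ from fun z _ => h z)
      rw [finrank_top, finrank_span_singleton (fun h' => hu0 (congrArg Subtype.val h'))] at this
      omega
    set v0 : Y := w - (polar Q (u : V) w / polar Q (u : V) u) • u with hv0
    have huv : polar Q (u : V) v0 = 0 := by
      rw [hv0, Submodule.coe_sub, Submodule.coe_smul, polar_sub_right, polar_smul_right',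
        div_mul_cancel₀ _ huu, sub_self]
    have hv00 : v0 ≠ 0 := fun h => hw (by
      rw [hv0, sub_eq_zero] at h
      rw [h]; exact Submodule.smul_mem _ _ (Submodule.mem_span_singleton_self _))
    have hQv : Q (v0 : V) ≠ 0 := by
      intro h
      refine hv00 (hY v0 fun z => ?_)
      have hsp : Submodule.span F {u, v0} = ⊤ := by
        refine Submodule.eq_top_of_finrank_eq (le_antisymm (Submodule.finrank_le _) ?_)
        have hlt : Submodule.span F {u} < Submodule.span F {u, v0} := by
          refine lt_of_le_of_ne (Submodule.span_mono (by simp)) fun h' => hw ?_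
          have hmem : v0 ∈ Submodule.span F {u} := h' ▸ Submodule.subset_span (by simp)
          simpa [hv0] using Submodule.add_mem _ hmem (Submodule.smul_mem _
            (polar Q (u : V) w / polar Q (u : V) u) (Submodule.mem_span_singleton_self u))
        have := Submodule.finrank_lt_finrank_of_lt hlt
        rw [finrank_span_singleton (fun h' => hu0 (congrArg Subtype.val h'))] at this
        omega
      obtain ⟨a, b, rfl⟩ := Submodule.mem_span_pair.1 (hsp ▸ Submodule.mem_top (x := z))
      rw [polar_restr, Submodule.coe_add, Submodule.coe_smul, Submodule.coe_smul, polar_add_right,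
        polar_smul_right', polar_smul_right', polar_self', h, polar_comm (⇑Q) (v0 : V), huv]
      ring
    obtain ⟨b, hb⟩ := hP.exists_value (by omega) (-Q (v0 : V))
    rw [restr_apply] at hb
    have hvb : polar Q (v0 : V) b = 0 := b.2 v0 v0.2
    have he : Q ((v0 : V) + b) = 0 := by rw [map_add_polar, hb, hvb]; ring
    have hev : polar Q ((v0 : V) + b) v0 ≠ 0 := by
      rw [polar_add_left, polar_self', polar_comm (⇑Q) (b : V), hvb, add_zero]
      exact mul_ne_zero h2 hQv
    have he0 : (v0 : V) + b ≠ 0 := fun h => hev (by rw [h, polar_zero_left])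
    obtain ⟨f, hf, hef⟩ := hQ.exists_partner he0 he
    have h := plane_step hQ (by omega) hY hk'' u.2 v0.2 hu
      (fun h => hv00 (Subtype.ext h)) ⟨_, f, he, hf, hef⟩
      (show polar Q ((v0 : V) + b) u = 0 by
        rw [polar_add_left, polar_comm (⇑Q) (v0 : V), huv, polar_comm (⇑Q) (b : V),
          b.2 u u.2, add_zero])
      hev (k := 2) (Or.inr ⟨huv, by rw [hF]⟩)
    refine arith_plane hC (zc_lower hT (Q (u : V))) (w := Nat.card F ^ (2 * d + 1 - 3)) le_rfl ?_
    rw [show finrank F V - 3 = 2 * d + 1 - 3 by omega] at h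
    refine h.trans (le_of_eq ?_)
    ring

/-- Orbits of subspaces of intermediate dimension. -/
theorem subspace_bound (hQ : Nondeg Q) (hC : Case (Nat.card F) d d0) (hT : HasType Q d d0)
    {Y : Submodule F V} (hk : 2 ≤ finrank F Y) (hk' : finrank F Y < finrank F V) :
    bnd (Nat.card F) d d0 ≤ nOrb Q Y * Nat.card F ^ finrank F Y * (Nat.card F - 1) := by
  classical
  have hd := hC.two_le_d
  have hR : ∀ x ∈ Y ⊓ perp Q Y, ∀ y ∈ Y ⊓ perp Q Y, polar Q x y = 0 :=
    fun x hx y hy => hy.2 x hx.1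
  let K : Submodule F V :=
    { carrier := {x | x ∈ Y ⊓ perp Q Y ∧ Q x = 0}
      add_mem' := fun {x y} hx hy => ⟨Submodule.add_mem _ hx.1 hy.1, by
        rw [map_add_polar, hx.2, hy.2, hR x hx.1 y hy.1, add_zero, add_zero]⟩
      zero_mem' := ⟨zero_mem _, QuadraticMap.map_zero _⟩
      smul_mem' := fun c x hx => ⟨Submodule.smul_mem _ c hx.1, by rw [qmap_smul, hx.2, mul_zero]⟩ }
  have hfix : ∀ g : sieGroup Q, im g Y = Y →
      ∀ x ∈ Y ⊓ perp Q Y, ap g x ∈ Y ⊓ perp Q Y := fun g hg x hx => by
    have hp : im g (perp Q Y) = perp Q Y := by rw [im_perp, hg]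
    exact ⟨hg ▸ ap_mem_im g hx.1, hp ▸ ap_mem_im g hx.2⟩
  by_cases hK : K = ⊥
  swap
  · refine singRad_bound (K := K) hQ hC hT hk (fun x hx => hx.1) (fun x hx => hx.2) hK
      (fun x hx h => ⟨hx, h⟩) (nOrb_mono fun g hg => ?_)
    refine le_antisymm ?_ fun x hx => ?_
    · rintro _ ⟨x, hx, rfl⟩
      exact ⟨hfix g hg x hx.1, (q_ap g x).trans hx.2⟩
    · have hg' : im g⁻¹ Y = Y := by conv_lhs => rw [← hg, im_inv_im]
      exact mem_im.2 ⟨ap g⁻¹ x, ⟨hfix _ hg' x hx.1, (q_ap _ x).trans hx.2⟩, ap_ap_inv g x⟩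
  have hK' : ∀ x ∈ Y ⊓ perp Q Y, Q x = 0 → x = 0 := fun x hx h => by
    have : x ∈ K := ⟨hx, h⟩
    rwa [hK, Submodule.mem_bot] at this
  by_cases hRad : Y ⊓ perp Q Y = ⊥
  · exact nondeg_bound hQ hC hT ((nondeg_restr_iff Y).2 hRad) hk hk'
  obtain ⟨r, hr, hr0⟩ := Submodule.exists_mem_ne_zero_of_ne_bot hRad
  have hQr : Q r ≠ 0 := fun h => hr0 (hK' r hr h)
  rcases id hC with ⟨hF, rfl, hd3⟩ | ⟨hF, rfl, hd2⟩
  swap
  · have := hR r hr r hr
    rw [polar_self'] at this
    exact absurd ((mul_eq_zero.1 this).resolve_left (two_ne_zero_of_card hF)) hQr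
  have h2 := two_eq_zero_of_card hF
  have hRs := card_two_ker hF hR hr hQr hK'
  have hk3 : 3 ≤ finrank F Y := by
    by_contra h
    have hlt : Y ⊓ perp Q Y < Y := lt_of_le_of_ne inf_le_left fun h' => by
      rw [hRs] at h'
      rw [← h', finrank_span_singleton hr0] at hk
      omega
    obtain ⟨y, hy, hyR⟩ := SetLike.exists_of_lt hlt
    apply hyR
    refine ⟨hy, fun z hz => ?_⟩
    have hYs : Submodule.span F {r, y} = Y := by
      refine Submodule.eq_of_le_of_finrank_le (Submodule.span_le.2 ?_) ?_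
      · rintro x (rfl | rfl)
        exacts [hr.1, hy]
      · have hlt' : Submodule.span F {r} < Submodule.span F {r, y} := by
          refine lt_of_le_of_ne (Submodule.span_mono (by simp)) fun h' => hyR ?_
          rw [hRs, h']; exact Submodule.subset_span (by simp)
        have := Submodule.finrank_lt_finrank_of_lt hlt'
        rw [finrank_span_singleton hr0] at this
        omega
    rw [← hYs] at hz
    obtain ⟨a, b, rfl⟩ := Submodule.mem_span_pair.1 hz
    rw [polar_add_left, polar_smul_left', polar_smul_left', polar_comm (⇑Q) r, hr.2 y hy,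
      polar_self', h2]
    ring
  have hc : nOrb Q (Submodule.span F {r}) ≤ nOrb Q Y := by
    refine nOrb_mono fun g hg => ?_
    rw [← hRs]
    have hp : im g (perp Q Y) = perp Q Y := by rw [im_perp, hg]
    rw [im, Submodule.map_inf _ (ap g).injective]
    exact congrArg₂ (· ⊓ ·) hg hp
  obtain ⟨p, -⟩ := ((show d = d - 1 + 1 by omega) ▸ hT).exists_pair hQ
  have hn := hT.finrank_eq hQ
  have hs := sphere_le_nOrb hQ (Or.inl (by omega)) p hQr
  rw [hF] at hs ⊢
  refine le_trans (arith_nonsing (c := zc Q (Q r)) (by omega) hk3 ?_) ?_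
  · have hz := zc_lower hT (Q r)
    rw [hF] at hz
    simpa using hz
  · refine Nat.mul_le_mul_right _ (Nat.mul_le_mul_right _ (hs.trans ?_))
    simpa using hc

end Cfsg.Agent.H72.OmMin
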