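import Cfsg.Agent.H72.OmMin.Orbit
import Cfsg.Agent.H72.OmMin.Subspace
import Cfsg.Agent.Orthogonal.Simple

/-!
A subgroup of small index lets every radical act regularly on the cosets.
-/

set_option autoImplicit false
set_option linter.unusedSectionVars false

namespace Cfsg.Agent.H72.OmMin

open QuadraticMap Module
open Cfsg.Agent.Orthogonal Cfsg.Agent.H53.OmLow

variable {F V : Type*} [Field F] [Finite F] [AddCommGroup V] [Module F V] [FiniteDimensional F V]
variable {Q : QuadraticForm F V} {H : Subgroup (sieGroup Q)} {d d0 : ℕ}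

variable (hQ : Nondeg Q) (hC : Case (Nat.card F) d d0) (hT : HasType Q (d + 1) d0) (hH : H ≠ ⊤)
  (hlt : H.index * (Nat.card F - 1) < bnd (Nat.card F) d d0)

include hQ hC hT hH hlt

theorem free_or_line (p : HP Q) (x : sieGroup Q ⧸ H) :
    Xst (case_prime hC) p x = ⊥ ∨
      finrank F (perp (restr Q p.W) (Xst (case_prime hC) p x)) = 1 := by
  set X := Xst (case_prime hC) p x
  have hW := p.nd hQ
  have hTW := hT.perp_pair hQ p
  by_contra hc
  push Not at hc
  have hk0 : finrank F (perp (restr Q p.W) X) ≠ 0 := fun h => by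
    apply Xst_ne_top (case_prime hC) p x hQ hC hT hH hlt
    rw [← hW.perp_perp (Xst (case_prime hC) p x)]
    show perp (restr Q p.W) (perp (restr Q p.W) X) = ⊤
    rw [Submodule.finrank_eq_zero.1 h, perp_bot]
  have hkD : finrank F (perp (restr Q p.W) X) < finrank F p.W := by
    refine lt_of_le_of_ne (Submodule.finrank_le _) fun h => hc.1 ?_
    rw [← hW.perp_perp X, Submodule.eq_top_of_finrank_eq h, hW.perp_top]
  have h1 := subspace_bound hW hC hTW (by omega) hkD
  have h2 := nOrb_perp_le hW (perp (restr Q p.W) X)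
  rw [hW.perp_perp X] at h2
  refine absurd (h1.trans (Nat.mul_le_mul_right _ ?_)) (not_le.2 hlt)
  exact (Nat.mul_le_mul_right _ h2).trans
    ((orbit_bound (case_prime hC) p x hQ).trans (card_Sdim_le _ _ _))

theorem exists_free_of_line (p : HP Q) (x : sieGroup Q ⧸ H)
    (h : finrank F (perp (restr Q p.W) (Xst (case_prime hC) p x)) = 1) :
    ∃ p' : HP (restr Q p.W), Xst (case_prime hC) (p.lift p') x = ⊥ := by
  classical
  have hd := hC.two_le_d
  set X := Xst (case_prime hC) p x with hX
  have hW := p.nd hQ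
  have hn : 5 ≤ finrank F p.W := by
    have := (hT.perp_pair hQ p).finrank_eq hW
    rcases hC with h | h <;> omega
  obtain ⟨y, hy, hy0⟩ := exists_mem_ne_zero h.ge
  have hYs : perp (restr Q p.W) X = Submodule.span F {y} :=
    (Submodule.eq_of_le_of_finrank_eq ((Submodule.span_singleton_le_iff_mem _ _).2 hy)
      (by rw [finrank_span_singleton hy0, h])).symm
  obtain ⟨e, he, hey⟩ : ∃ e, restr Q p.W e = 0 ∧ polar (restr Q p.W) y e ≠ 0 := by
    by_contra hc
    push Not at hc
    have htop := span_singular hW (by omega) (perp (restr Q p.W) (Submodule.span F {y}))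
      fun z hz => (mem_perp_span_singleton _).2 (hc z hz)
    apply hy0
    refine hW y fun z => ?_
    exact (mem_perp_span_singleton _).1 (htop ▸ Submodule.mem_top (x := z))
  obtain ⟨f, hf, hef⟩ :=
    hW.exists_partner (fun h0 => hey (by rw [h0, polar_zero_right])) he
  set p' : HP (restr Q p.W) := ⟨e, f, he, hf, hef⟩
  refine ⟨p', (free_or_line hQ hC hT hH hlt (p.lift p') x).resolve_right fun hk => ?_⟩
  -- the radical of the inner pair moves the point
  have hinj : ∀ w : p'.W, emb hQ p (xr p' w) • x = x → w = 0 := by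
    intro w hw
    have h1 := Xst_emb (case_prime hC) p x hQ (xr p' w)
    rw [hw, ← hX] at h1
    have h2 : im (xr p' w) (Submodule.span F {y}) = Submodule.span F {y} := by
      rw [← hYs, im_perp, ← h1]
    have h3 : ap (xr p' w) y ∈ Submodule.span F {y} :=
      h2 ▸ ap_mem_im _ (Submodule.mem_span_singleton_self y)
    obtain ⟨l, hl⟩ := Submodule.mem_span_singleton.1 h3
    rw [xr_app] at hl
    have hb : polar (restr Q p.W) p'.e y ≠ 0 := by rw [polar_comm]; exact hey
    have h4 := congrArg (polar (restr Q p.W) p'.e) hl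
    rw [polar_smul_right', polar_sub_right, polar_add_right, polar_smul_right', polar_smul_right',
      polar_self', p'.he, p'.e_w] at h4
    have hl1 : l = 1 := mul_right_cancel₀ hb (by linear_combination h4)
    set b := polar (restr Q p.W) p'.e y
    set c := polar (restr Q p.W) (w : p.W) y - restr Q p.W (w : p.W) * b
    have h5 : c • p'.e = b • (w : p.W) := by
      rw [hl1, one_smul] at hl
      linear_combination (norm := module) -hl
    have h6 := congrArg (polar (restr Q p.W) p'.f) h5
    rw [polar_smul_right', polar_smul_right', p'.hfe, p'.f_w, mul_zero, mul_one] at h6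
    rw [h6, zero_smul, eq_comm] at h5
    exact Subtype.ext ((smul_eq_zero.1 h5).resolve_left hb)
  -- so the stabiliser in the radical of the lifted pair is small
  let ι : p'.W →ₗ[F] (p.lift p').W :=
    { toFun := fun w => ⟨((w : p.W) : V), (p.lift p').mem_W.2
        ⟨(polar_restr p.W p'.e (w : p.W)).symm.trans (p'.e_w w),
          (polar_restr p.W p'.f (w : p.W)).symm.trans (p'.f_w w)⟩⟩
      map_add' := fun _ _ => rfl
      map_smul' := fun _ _ => rfl }
  have hι : ∀ w, emb hQ p (xr p' w) = xr (p.lift p') (ι w) := fun w => emb_sg hQ p p'.he (p'.e_w w)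
  have hι0 : Function.Injective ι := fun a b hab =>
    Subtype.ext (Subtype.ext (congrArg (fun z : (p.lift p').W => (z : V)) hab))
  have hdisj : Disjoint (LinearMap.range ι) (Xst (case_prime hC) (p.lift p') x) := by
    rw [Submodule.disjoint_def]
    rintro _ ⟨w, rfl⟩ hw
    rw [hinj w (by rw [hι]; exact hw), map_zero]
  have h7 := Submodule.finrank_add_finrank_le_of_disjoint hdisj
  rw [LinearMap.finrank_range_of_inj hι0] at h7
  have h8 := ((p.lift p').nd hQ).finrank_add_perp (Xst (case_prime hC) (p.lift p') x)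
  have h9 := p'.finrank_W hW
  have h10 := p.finrank_W hQ
  have h11 := (p.lift p').finrank_W hQ
  omega

theorem exists_free (p : HP Q) : ∃ x : sieGroup Q ⧸ H, Xst (case_prime hC) p x = ⊥ := by
  obtain ⟨x⟩ : Nonempty (sieGroup Q ⧸ H) := ⟨QuotientGroup.mk 1⟩
  rcases free_or_line hQ hC hT hH hlt p x with h | h
  · exact ⟨x, h⟩
  obtain ⟨p', h'⟩ := exists_free_of_line hQ hC hT hH hlt p x h
  refine ⟨(p.gg p')⁻¹ • x, eq_bot_iff.2 fun w hw => ?_⟩
  have hgw : ap (p.gg p') (w : V) ∈ (p.lift p').W := by
    rw [(p.lift p').mem_W]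
    have e1 : ap (p.gg p') p.e = (p.lift p').e := gg_e p p'
    have e2 : ap (p.gg p') p.f = (p.lift p').f := gg_f p p'
    rw [← e1, ← e2, polar_ap, polar_ap]
    exact ⟨p.e_w w, p.f_w w⟩
  have hm : (⟨_, hgw⟩ : (p.lift p').W) ∈ Xst (case_prime hC) (p.lift p') x := by
    rw [mem_Xst]
    have e : xr (p.lift p') ⟨_, hgw⟩ = p.gg p' * xr p w * (p.gg p')⁻¹ := by
      rw [xr, xr, sg_conj]
      exact sg_congr (gg_e p p').symm rfl
    rw [e, mul_smul, mul_smul, (mem_Xst _ _ _).1 hw, smul_inv_smul]
  rw [h', Submodule.mem_bot] at hm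
  have h0 : ap (p.gg p') (w : V) = 0 := congrArg Subtype.val hm
  rw [Submodule.mem_bot]
  exact Subtype.ext ((ap (p.gg p')).map_eq_zero_iff.1 h0)

theorem all_free (p : HP Q) (x : sieGroup Q ⧸ H) : Xst (case_prime hC) p x = ⊥ := by
  refine (free_or_line hQ hC hT hH hlt p x).resolve_right fun hk => ?_
  have hd := hC.two_le_d
  have hq := hC.two_le
  set X := Xst (case_prime hC) p x with hX
  have hW := p.nd hQ
  have hTW := hT.perp_pair hQ p
  have hD : finrank F p.W = 2 * d + d0 := by
    have := hTW.finrank_eq hW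
    omega
  obtain ⟨y0, hy0⟩ := exists_free hQ hC hT hH hlt p
  have h1 := free_bound (case_prime hC) p y0 hQ hy0
  have h2 := orbit_bound (case_prime hC) p x hQ
  rw [hk, pow_one] at h2
  have hXd : finrank F X + 1 = finrank F p.W := by
    have := hW.finrank_add_perp X
    omega
  have h3 := card_Sdim_add_le (case_prime hC) p (H := H) (i := 0) (j := finrank F X) (by omega)
  obtain ⟨y, hy, hy'⟩ := exists_mem_ne_zero hk.ge
  have hYs : perp (restr Q p.W) X = Submodule.span F {y} :=
    (Submodule.eq_of_le_of_finrank_eq ((Submodule.span_singleton_le_iff_mem _ _).2 hy)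
      (by rw [finrank_span_singleton hy', hk])).symm
  have h4 := nOrb_perp_le hW (perp (restr Q p.W) X)
  rw [hW.perp_perp X, hYs] at h4
  have e : d = d - 1 + 1 := by omega
  have h5 : Nat.card F ^ (d + d0) * (Nat.card F ^ d - 1) ≤
      Nat.card F * (nOrb (restr Q p.W) (Submodule.span F {y}) * (Nat.card F - 1)) := by
    by_cases hQy : restr Q p.W y = 0
    · have hU : TotSing (restr Q p.W) (Submodule.span F {y}) := fun z hz => by
        obtain ⟨a, rfl⟩ := Submodule.mem_span_singleton.1 hz
        rw [qmap_smul, hQy, mul_zero]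
      have hd0 : d0 ≤ 1 := by rcases hC with h | h <;> omega
      have h6 := one_step_type hW (by omega) (e ▸ hTW) hd0 hU
        (by rw [finrank_span_singleton hy'])
      rw [finrank_span_singleton hy', pow_one, zNum, ← e] at h6
      refine le_trans ?_ (Nat.mul_le_mul_left _ h6)
      calc Nat.card F ^ (d + d0) * (Nat.card F ^ d - 1)
          = Nat.card F * ((Nat.card F ^ d - 1) * Nat.card F ^ (d - 1 + d0)) := by
            rw [show d + d0 = d - 1 + d0 + 1 by omega, pow_succ]; ring
        _ ≤ _ := Nat.mul_le_mul_left _ (Nat.mul_le_mul_left _ (Nat.le_succ _))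
    · obtain ⟨p', -⟩ := (e ▸ hTW).exists_pair hW
      have hn' : 4 ≤ finrank F p.W := by rcases hC with h | h <;> omega
      exact (low_sphere (zc_lower hTW _)).trans
        (Nat.mul_le_mul_left _ (sphere_le_nOrb hW (Or.inl hn') p' hQy))
  refine absurd (arith_line (c := nOrb (restr Q p.W) (Submodule.span F {y})) hq ?_ h5)
    (not_le.2 hlt)
  rw [← hD]
  exact le_trans (Nat.add_le_add h1 ((Nat.mul_le_mul_right _ h4).trans h2)) h3

theorem regular (p : HP Q) (x y : sieGroup Q ⧸ H) : ∃ w : p.W, xr p w • x = y := by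
  by_contra h
  push Not at h
  have h1 := free_two (case_prime hC) p x (all_free hQ hC hT hH hlt p x)
    (all_free hQ hC hT hH hlt p y) h
  have hD : finrank F p.W = 2 * d + d0 := by
    have := (hT.perp_pair hQ p).finrank_eq (p.nd hQ)
    omega
  rw [hD] at h1
  exact absurd (arith_twice hC.two_le h1) (not_le.2 hlt)

end Cfsg.Agent.H72.OmMin
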