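import Cfsg.Agent.H72.OmMin.TotSing

/-!
The stabiliser in a radical of a coset.
-/

set_option autoImplicit false
set_option linter.unusedSectionVars false

namespace Cfsg.Agent.H72.OmMin

open QuadraticMap Module
open Cfsg.Agent.Orthogonal Cfsg.Agent.H53.OmLow

variable {F V : Type*} [Field F] [Finite F] [AddCommGroup V] [Module F V] [FiniteDimensional F V]
variable {Q : QuadraticForm F V} {H : Subgroup (sieGroup Q)}

theorem conj_xr (hQ : Nondeg Q) (p : HP Q) (h : sieGroup (restr Q p.W)) (w : p.W) :
    emb hQ p h * xr p w = xr p (ap h w) * emb hQ p h := by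
  rw [← mul_inv_eq_iff_eq_mul, xr, sg_conj]
  exact sg_congr (emb_e hQ p h) (emb_app hQ p h w)

variable (hF : (Nat.card F).Prime) (p : HP Q) (x : sieGroup Q ⧸ H)

/-- The vectors whose radical element fixes a point. -/
def Xst : Submodule F p.W :=
  { carrier := {w | xr p w • x = x}
    add_mem' := fun {a b} ha hb => by
      show xr p (a + b) • x = x
      rw [xr_add, mul_smul, show xr p b • x = x from hb, show xr p a • x = x from ha]
    zero_mem' := by
      show xr p 0 • x = x
      rw [xr_zero, one_smul]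
    smul_mem' := fun c {w} hw => by
      let A : AddSubgroup p.W :=
        { carrier := {w | xr p w • x = x}
          add_mem' := fun {a b} ha hb => by
            show xr p (a + b) • x = x
            rw [xr_add, mul_smul, show xr p b • x = x from hb, show xr p a • x = x from ha]
          zero_mem' := by
            show xr p 0 • x = x
            rw [xr_zero, one_smul]
          neg_mem' := fun {a} ha => by
            show xr p (-a) • x = x
            conv_lhs => rw [← show xr p a • x = x from ha]
            rw [← mul_smul, ← xr_add, neg_add_cancel, xr_zero, one_smul] }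
      exact smul_mem_of_prime hF A c (show w ∈ A from hw) }

theorem mem_Xst {w : p.W} : w ∈ Xst hF p x ↔ xr p w • x = x := Iff.rfl

theorem xr_smul_eq_iff {a b : p.W} : xr p a • x = xr p b • x ↔ a - b ∈ Xst hF p x := by
  rw [mem_Xst, show xr p a = xr p b * xr p (a - b) by rw [← xr_add, add_sub_cancel], mul_smul,
    smul_left_cancel_iff]

theorem Xst_xr (a : p.W) : Xst hF p (xr p a • x) = Xst hF p x := by
  ext w
  rw [mem_Xst, mem_Xst, ← mul_smul, ← xr_add, add_comm, xr_add, mul_smul, smul_left_cancel_iff]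

theorem Xst_emb (hQ : Nondeg Q) (h : sieGroup (restr Q p.W)) :
    Xst hF p (emb hQ p h • x) = im h (Xst hF p x) := by
  ext w
  have key : xr p w • emb hQ p h • x = emb hQ p h • xr p (ap h⁻¹ w) • x := by
    rw [← mul_smul, ← mul_smul, conj_xr hQ p h, ap_ap_inv]
  rw [mem_Xst, key, smul_left_cancel_iff, mem_im]
  constructor
  · exact fun h' => ⟨_, h', ap_ap_inv h w⟩
  · rintro ⟨y, hy, rfl⟩
    rw [ap_inv_ap]; exact hy

theorem finrank_im {U : Submodule F V} (g : sieGroup Q) : finrank F (im g U) = finrank F U :=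
  LinearEquiv.finrank_map_eq (ap g) U

/-- The points with stabiliser of a dimension. -/
abbrev Sdim (j : ℕ) : Type _ := {y : sieGroup Q ⧸ H // finrank F (Xst hF p y) = j}

/-- A point gives many points with stabilisers of the same dimension. -/
theorem orbit_bound (hQ : Nondeg Q) :
    nOrb (restr Q p.W) (Xst hF p x) * Nat.card F ^ finrank F (perp (restr Q p.W) (Xst hF p x)) ≤
      Nat.card (Sdim (H := H) hF p (finrank F (Xst hF p x))) := by
  classical
  have : Finite p.W := finite_V F
  have : Finite (Submodule F p.W) := finite_submodule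
  set O' := Set.range fun g : sieGroup (restr Q p.W) => im g (Xst hF p x)
  let T := Σ U : O', p.W ⧸ U.1
  have hT : Nat.card T = nOrb (restr Q p.W) (Xst hF p x) *
      Nat.card F ^ finrank F (perp (restr Q p.W) (Xst hF p x)) := by
    have e : ∀ U : O', Nat.card (p.W ⧸ U.1) =
        Nat.card F ^ finrank F (perp (restr Q p.W) (Xst hF p x)) := by
      rintro ⟨_, g, rfl⟩
      rw [Module.natCard_eq_pow_finrank (K := F)]
      congr 1
      have h1 := (p.nd hQ).finrank_add_perp (Xst hF p x)
      have h2 := Submodule.finrank_quotient_add_finrank (im g (Xst hF p x))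
      rw [finrank_im] at h2
      show finrank F (p.W ⧸ im g (Xst hF p x)) = _
      omega
    have : Fintype O' := Fintype.ofFinite _
    rw [Nat.card_sigma, Finset.sum_congr rfl (fun U _ => e U), Finset.sum_const, Finset.card_univ,
      smul_eq_mul, nOrb, Nat.card_eq_fintype_card (α := O')]
  have hX : ∀ (U : O') (a : p.W), Xst hF p (xr p a • emb hQ p (rp U) • x) = U.1 := fun U a => by
    rw [Xst_xr, Xst_emb, rp_spec]
  rw [← hT]
  refine Nat.card_le_card_of_injective (fun t : T =>
    (⟨xr p t.2.out • emb hQ p (rp t.1) • x, by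
      rw [hX, ← rp_spec t.1, finrank_im]⟩ : Sdim (H := H) hF p (finrank F (Xst hF p x)))) ?_
  rintro ⟨U, a⟩ ⟨U', a'⟩ h
  have h' := congrArg Subtype.val h
  simp only at h'
  have hU : U = U' := Subtype.ext (by rw [← hX U a.out, h', hX])
  subst hU
  rw [xr_smul_eq_iff hF, Xst_emb, rp_spec] at h'
  congr 1
  rw [← Submodule.Quotient.eq] at h'
  calc a = Submodule.Quotient.mk a.out := (Quotient.out_eq a).symm
    _ = Submodule.Quotient.mk a'.out := h'
    _ = a' := Quotient.out_eq a'

theorem card_Sdim_le (j : ℕ) : Nat.card (Sdim (H := H) hF p j) ≤ H.index := by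
  rw [Subgroup.index]
  exact Nat.card_le_card_of_injective _ Subtype.val_injective

theorem card_Sdim_add_le {i j : ℕ} (hij : i ≠ j) :
    Nat.card (Sdim (H := H) hF p i) + Nat.card (Sdim (H := H) hF p j) ≤ H.index := by
  rw [Subgroup.index, ← Nat.card_sum]
  refine Nat.card_le_card_of_injective (Sum.elim Subtype.val Subtype.val) ?_
  refine Subtype.val_injective.sumElim Subtype.val_injective fun a b h => hij ?_
  rw [← a.2, ← b.2, h]

/-- Radical orbit of a free point. -/
theorem free_bound (hQ : Nondeg Q) (hx : Xst hF p x = ⊥) :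
    Nat.card F ^ finrank F p.W ≤ Nat.card (Sdim (H := H) hF p 0) := by
  have h := orbit_bound hF p x hQ
  rw [hx, perp_bot, finrank_top, finrank_bot] at h
  exact le_trans (Nat.le_mul_of_pos_left _ (nOrb_pos _)) h

theorem free_two {y : sieGroup Q ⧸ H} (hx : Xst hF p x = ⊥) (hy : Xst hF p y = ⊥)
    (hxy : ∀ w, xr p w • x ≠ y) : 2 * Nat.card F ^ finrank F p.W ≤ H.index := by
  have : Finite p.W := finite_V F
  rw [← Module.natCard_eq_pow_finrank (K := F), two_mul, Subgroup.index, ← Nat.card_sum]
  refine Nat.card_le_card_of_injective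
    (Sum.elim (fun w => xr p w • x) (fun w => xr p w • y)) ?_
  refine Function.Injective.sumElim ?_ ?_ ?_
  · intro a b h
    have := (xr_smul_eq_iff hF p x).1 h
    rwa [hx, Submodule.mem_bot, sub_eq_zero] at this
  · intro a b h
    have := (xr_smul_eq_iff hF p y).1 h
    rwa [hy, Submodule.mem_bot, sub_eq_zero] at this
  · intro a b h
    refine hxy (-b + a) ?_
    rw [xr_add, mul_smul, h, ← mul_smul, ← xr_add, neg_add_cancel, xr_zero, one_smul]

/-- No point is fixed by a whole radical. -/
theorem Xst_ne_top (hQ : Nondeg Q) {d d0 : ℕ} (hC : Case (Nat.card F) d d0)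
    (hT : HasType Q (d + 1) d0) (hH : H ≠ ⊤)
    (hlt : H.index * (Nat.card F - 1) < bnd (Nat.card F) d d0) : Xst hF p x ≠ ⊤ := by
  intro hX
  obtain ⟨g, rfl⟩ := QuotientGroup.mk_surjective x
  have hn : 3 ≤ finrank F V := by
    have := hT.finrank_eq hQ
    have := hC.two_le_d
    omega
  have hr : RadIn H (ap g⁻¹ p.e) := by
    intro w he hw
    have hw' : ap g w ∈ p.W ⊔ Submodule.span F {p.e} := by
      have h0 : polar Q p.e (ap g w) = 0 := by rw [← ap_ap_inv g p.e, polar_ap]; exact hw
      refine Submodule.mem_sup.2 ⟨_, p.split (ap g w), polar Q p.f (ap g w) • p.e,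
        Submodule.smul_mem _ _ (Submodule.mem_span_singleton_self _), ?_⟩
      rw [h0, zero_smul]; abel
    obtain ⟨a, ha, b, hb, hab⟩ := Submodule.mem_sup.1 hw'
    obtain ⟨l, rfl⟩ := Submodule.mem_span_singleton.1 hb
    have h1 : xr p ⟨a, ha⟩ • (QuotientGroup.mk g : sieGroup Q ⧸ H) = QuotientGroup.mk g :=
      (mem_Xst hF p _).1 (hX ▸ Submodule.mem_top)
    rw [MulAction.Quotient.smul_mk, eq_comm, QuotientGroup.eq] at h1
    have e : g⁻¹ * (xr p ⟨a, ha⟩ * g) = sg (ap g⁻¹ p.e) w he hw := by
      have e1 : xr p ⟨a, ha⟩ = sg p.e (a + l • p.e) p.he (by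
          rw [polar_add_right, polar_smul_right', polar_self', p.he, (p.mem_W.1 ha).1]; ring) :=
        (sg_add_smul p.he (p.mem_W.1 ha).1 l).symm
      rw [← mul_assoc]
      have e2 := sg_conj (Q := Q) p.he (w := ap g w)
        (by rw [← ap_ap_inv g p.e, polar_ap]; exact hw) g⁻¹
      rw [inv_inv] at e2
      rw [e1, sg_congr (hu' := p.he) (hw' := by
        rw [← ap_ap_inv g p.e, polar_ap]; exact hw) rfl hab, e2]
      exact sg_congr rfl (ap_inv_ap g w)
    rw [← e]
    exact h1
  have he0 : ap g⁻¹ p.e ≠ 0 := (ap g⁻¹).map_ne_zero_iff.2 p.e_ne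
  obtain ⟨U, hU0, hU, hfix⟩ := exists_totSing hQ hn hH he0 (by rw [q_ap]; exact p.he) hr
  exact absurd ((totSing_bound hQ hC hT hU hU0).trans
    (Nat.mul_le_mul_right _ (nOrb_le_index hfix))) (not_le.2 hlt)

end Cfsg.Agent.H72.OmMin
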