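import Cfsg.Agent.H72.OmMin.TotSing

/-!
Orbits of non-degenerate subspaces.
-/

set_option autoImplicit false
set_option linter.unusedSectionVars false

namespace Cfsg.Agent.H72.OmMin

open QuadraticMap Module
open Cfsg.Agent.Orthogonal Cfsg.Agent.H53.OmLow

variable {F V : Type*} [Field F] [Finite F] [AddCommGroup V] [Module F V] [FiniteDimensional F V]
variable {Q : QuadraticForm F V}

theorem exists_map_sphere (hQ : Nondeg Q)
    (hn : 4 ≤ finrank F V ∨ (2 : F) ≠ 0 ∧ finrank F V = 3) (p : HP Q) {u x : V} (hu : Q u ≠ 0)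
    (hx : Q x = Q u) : ∃ g : sieGroup Q, ap g u = x := by
  obtain ⟨g, hg, e⟩ := exists_sie_sphere' hQ hn p hu
  obtain ⟨g', hg', e'⟩ := exists_sie_sphere' hQ hn p (show Q x ≠ 0 by rw [hx]; exact hu)
  refine ⟨(⟨g', hg'⟩ : sieGroup Q)⁻¹ * ⟨g, hg⟩, ?_⟩
  have e2 : ap (⟨g, hg⟩ : sieGroup Q) u = ap (⟨g', hg'⟩ : sieGroup Q) x :=
    e.trans ((congrArg (fun c => p.e + c • p.f) hx.symm).trans e'.symm)
  rw [H53.OmLow.ap_mul, e2, ap_inv_ap]

theorem xr_app (p : HP Q) (w : p.W) (x : V) : ap (xr p w) x =
    x + (polar Q (w : V) x - Q (w : V) * polar Q p.e x) • p.e - polar Q p.e x • (w : V) :=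
  sie_app p.he (p.e_w w) x

/-- Orbit bound from a singular vector leaving a non-degenerate subspace. -/
theorem nondeg_step (hQ : Nondeg Q) {Y : Submodule F V} (hY : Nondeg (restr Q Y)) {a b : V}
    (ha : a ∈ Y) (ha0 : a ≠ 0) (hb : b ∈ perp Q Y) (hb0 : b ≠ 0) (hab : Q a + Q b = 0) :
    Nat.card F ^ (finrank F V - 2) ≤ nOrb Q Y * Nat.card F ∧
      (2 * Q a ≠ 0 → Nat.card F ^ (finrank F V - 2) ≤ nOrb Q Y) := by
  classical
  have : Finite V := finite_V F
  have : Finite (Submodule F V) := finite_submodule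
  have hbY : ∀ v ∈ Y, polar Q v b = 0 := hb
  have hd := (nondeg_restr_iff Y).1 hY
  have hbn : b ∉ Y := fun h => hb0 ((Submodule.mem_bot F).1 (hd ▸ ⟨h, hb⟩))
  have he : Q (a + b) = 0 := by rw [map_add_polar, hbY a ha, add_zero, hab]
  have he0 : a + b ≠ 0 := fun h => hbn (by
    rw [eq_neg_of_add_eq_zero_right h]; exact Y.neg_mem ha)
  obtain ⟨f, hf, hef⟩ := hQ.exists_partner he0 he
  set p : HP Q := ⟨a + b, f, he, hf, hef⟩ with hp
  obtain ⟨y', hy⟩ := hY.exists_polar_eq (x := (⟨a, ha⟩ : Y))
    (fun h => ha0 (congrArg Subtype.val h)) 1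
  rw [polar_restr] at hy
  set y : V := (y' : V) with hy'
  have hey : polar Q p.e y = 1 := by
    show polar Q (a + b) y = 1
    rw [polar_add_left, hy, polar_comm (⇑Q) b, hbY y y'.2, add_zero]
  set v0 : V := polar Q f a • (a + b) - a
  have key : ∀ w : p.W, im (xr p w) Y = Y →
      ∃ t : F, (w : V) = t • v0 ∧ (2 * Q a ≠ 0 → t = 0) := by
    intro w hw
    have hmem : ∀ v ∈ Y, ap (xr p w) v - v ∈ Y := fun v hv =>
      Y.sub_mem (by conv => arg 1; rw [← hw]
                    exact ap_mem_im _ hv) hv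
    set β := polar Q (w : V) y - Q (w : V) with hβ
    set z := β • (a + b) - (w : V) with hz
    have hzY : z ∈ Y := by
      have := hmem y y'.2
      rw [xr_app, hey, mul_one, one_smul] at this
      rw [hz, hβ]
      convert this using 1
      show _ = y + (polar Q (w : V) y - Q (w : V)) • (a + b) - (w : V) - y
      abel
    have hw2 : ∀ v ∈ Y, polar Q a v = 0 → polar Q (w : V) v = 0 := by
      intro v hv hav
      have hev : polar Q p.e v = 0 := by
        show polar Q (a + b) v = 0
        rw [polar_add_left, hav, polar_comm (⇑Q) b, hbY v hv, add_zero]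
      have := hmem v hv
      rw [xr_app, hev, mul_zero, sub_zero, zero_smul, sub_zero, add_sub_cancel_left] at this
      by_contra h
      have h' := Y.smul_mem (polar Q (w : V) v)⁻¹ this
      rw [inv_smul_smul₀ h] at h'
      exact hbn (by simpa using Y.sub_mem (show a + b ∈ Y from h') ha)
    have hzv : ∀ v ∈ Y, polar Q a v = 0 → polar Q z v = 0 := fun v hv hav => by
      rw [hz, polar_sub_left, polar_smul_left', polar_add_left, hav, hw2 v hv hav,
        polar_comm (⇑Q) b, hbY v hv]
      ring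
    set t := polar Q z y with ht
    have hzt : z = t • a := by
      have h0 : z - t • a ∈ Y ⊓ perp Q Y := by
        refine ⟨Y.sub_mem hzY (Y.smul_mem _ ha), (mem_perp' Q).2 fun v hv => ?_⟩
        have h1 := hzv (v - polar Q a v • y) (Y.sub_mem hv (Y.smul_mem _ y'.2)) (by
          rw [polar_sub_right, polar_smul_right', hy, mul_one, sub_self])
        rw [polar_sub_right, polar_smul_right', ← ht] at h1
        rw [polar_sub_left, polar_smul_left']
        linear_combination h1
      rw [hd, Submodule.mem_bot, sub_eq_zero] at h0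
      exact h0
    have hwz : (w : V) = β • (a + b) - t • a := by rw [← hzt, hz, sub_sub_cancel]
    refine ⟨t, ?_, fun h2 => ?_⟩
    · have hfw : polar Q f (w : V) = 0 := p.f_w w
      have hfe : polar Q f (a + b) = 1 := p.hfe
      rw [hwz, polar_sub_right, polar_smul_right', polar_smul_right', hfe, mul_one,
        sub_eq_zero] at hfw
      rw [hwz, hfw, smul_sub, smul_smul]
    · have hew : polar Q (a + b) (w : V) = 0 := p.e_w w
      rw [hwz, polar_sub_right, polar_smul_right', polar_smul_right', polar_self', he,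
        polar_add_left, polar_self', polar_comm (⇑Q) b, hbY a ha, add_zero, mul_zero, mul_zero,
        zero_sub, neg_eq_zero] at hew
      exact (mul_eq_zero.1 hew).resolve_right h2
  set O' := Set.range fun g : sieGroup Q => im g Y
  let U : p.W → O' := fun w => ⟨im (xr p w) Y, _, rfl⟩
  have hU : ∀ w w', U w = U w' → im (xr p (w - w')) Y = Y := by
    intro w w' h
    have h' : im (xr p w) Y = im (xr p w') Y := congrArg Subtype.val h
    rw [show xr p (w - w') = (xr p w')⁻¹ * xr p w by
      rw [eq_inv_mul_iff_mul_eq, ← xr_add, add_sub_cancel], im_mul, h', im_inv_im]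
  have hW : Nat.card p.W = Nat.card F ^ (finrank F V - 2) := by
    rw [Module.natCard_eq_pow_finrank (K := F)]
    have := p.finrank_W hQ
    congr 1
    omega
  refine ⟨?_, fun h2 => ?_⟩
  · let w0 : p.W → p.W := fun w =>
      Classical.choose (show ∃ w', U w' = U w from ⟨w, rfl⟩)
    have hw0 : ∀ w, U (w0 w) = U w := fun w =>
      Classical.choose_spec (show ∃ w', U w' = U w from ⟨w, rfl⟩)
    have hw0' : ∀ w w', U w = U w' → w0 w = w0 w' := by
      intro w w' h
      simp only [w0]
      congr 1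
      funext x
      rw [h]
    choose t ht _ using fun w => key (w - w0 w) (hU _ _ (hw0 w).symm)
    rw [← hW, nOrb, ← Nat.card_prod]
    refine Nat.card_le_card_of_injective (fun w => (U w, t w)) fun w w' h => ?_
    obtain ⟨h1, h2⟩ := Prod.mk.injEq _ _ _ _ ▸ h
    have e := (ht w).trans ((congrArg (· • v0) h2).trans (ht w').symm)
    rw [hw0' w w' h1, Submodule.coe_sub, Submodule.coe_sub] at e
    exact Subtype.ext (sub_left_injective e)
  · rw [← hW, nOrb]
    refine Nat.card_le_card_of_injective U fun w w' h => ?_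
    obtain ⟨t, ht, ht0⟩ := key _ (hU _ _ h)
    rw [ht0 h2, zero_smul, Submodule.coe_sub, sub_eq_zero] at ht
    exact Subtype.ext ht

/-- Pairs of vectors of a plane with a given product. -/
theorem card_pairs_le (hQ : Nondeg Q) (h2 : finrank F V = 2) {k : ℕ} {t : F}
    (hk : Nat.card F ≤ k ∨ t = 0 ∧ Nat.card F ≤ k + 1) :
    Nat.card {r : V × V // r.1 ≠ 0 ∧ r.2 ≠ 0 ∧ polar Q r.1 r.2 = t} ≤
      (Nat.card F ^ 2 - 1) * k := by
  classical
  have : Finite V := finite_V F
  have : Fintype V := Fintype.ofFinite V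
  have hV : Fintype.card V = Nat.card F ^ 2 := by
    rw [← Nat.card_eq_fintype_card, Module.natCard_eq_pow_finrank (K := F), h2]
  rw [Nat.card_eq_fintype_card, Fintype.card_subtype]
  have hfib : ∀ a : V, a ≠ 0 →
      (Finset.univ.filter fun b : V => b ≠ 0 ∧ polar Q a b = t).card ≤ k := by
    intro a ha
    set φ := Q.polarBilin a
    have hker : Nat.card φ.ker = Nat.card F := by
      have hs : Function.Surjective φ := fun c => hQ.exists_polar_eq ha c
      have h := φ.finrank_range_add_finrank_ker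
      rw [LinearMap.range_eq_top.2 hs, finrank_top, finrank_self, h2] at h
      rw [Module.natCard_eq_pow_finrank (K := F), show finrank F φ.ker = 1 by omega, pow_one]
    rw [Nat.card_eq_fintype_card, Fintype.card_subtype] at hker
    rcases hk with hk | ⟨rfl, hk⟩
    · obtain ⟨b1, hb1⟩ := hQ.exists_polar_eq ha t
      refine le_trans (Finset.card_le_card_of_injOn (fun b => b - b1) ?_ ?_)
        (hker.le.trans hk)
      · intro b hb
        simp only [Finset.mem_coe, Finset.mem_filter, Finset.mem_univ, true_and] at hb ⊢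
        rw [LinearMap.mem_ker]
        show polar Q a (b - b1) = 0
        rw [polar_sub_right, hb.2, hb1, sub_self]
      · exact fun b _ b' _ h => sub_left_injective h
    · have hsub : insert (0 : V) (Finset.univ.filter fun b : V => b ≠ 0 ∧ polar Q a b = 0) ⊆
          Finset.univ.filter fun b => b ∈ φ.ker := by
        intro b hb
        simp only [Finset.mem_insert, Finset.mem_filter, Finset.mem_univ, true_and] at hb ⊢
        rcases hb with rfl | hb
        · exact zero_mem _
        · exact hb.2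
      have h := Finset.card_le_card hsub
      rw [Finset.card_insert_of_notMem (by simp), hker] at h
      omega
  have h1 : (Finset.univ.filter fun a : V => a ≠ 0).card = Nat.card F ^ 2 - 1 := by
    rw [Finset.filter_ne', Finset.card_erase_of_mem (Finset.mem_univ _), Finset.card_univ, hV]
  rw [← h1, mul_comm]
  refine le_trans (Finset.card_le_mul_card_image (f := Prod.fst) _ k ?_)
    (Nat.mul_le_mul_left _ (Finset.card_le_card ?_))
  · intro a ha
    obtain ⟨r, hr, rfl⟩ := Finset.mem_image.1 ha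
    refine le_trans (Finset.card_le_card_of_injOn Prod.snd ?_ ?_) (hfib r.1 (Finset.mem_filter.1 hr).2.1)
    · intro s hs
      simp only [Finset.mem_coe, Finset.mem_filter, Finset.mem_univ, true_and] at hs ⊢
      exact ⟨hs.1.2.1, hs.2 ▸ hs.1.2.2⟩
    · intro s hs s' hs' h
      simp only [Finset.mem_coe, Finset.mem_filter] at hs hs'
      exact Prod.ext (hs.2.trans hs'.2.symm) h
  · intro a ha
    obtain ⟨r, hr, rfl⟩ := Finset.mem_image.1 ha
    exact Finset.mem_filter.2 ⟨Finset.mem_univ _, (Finset.mem_filter.1 hr).2.1⟩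

/-- Orbit bound for a non-degenerate plane, by the images of two of its vectors. -/
theorem plane_step (hQ : Nondeg Q) (hn : 4 ≤ finrank F V) {Y : Submodule F V}
    (hY : Nondeg (restr Q Y)) (h2 : finrank F Y = 2) {b v0 : V} (hu : b ∈ Y) (hv0 : v0 ∈ Y)
    (hQu : Q b ≠ 0) (hv00 : v0 ≠ 0) (p : HP Q) (hpu : polar Q p.e b = 0)
    (hpv : polar Q p.e v0 ≠ 0) {k : ℕ}
    (hk : Nat.card F ≤ k ∨ polar Q b v0 = 0 ∧ Nat.card F ≤ k + 1) :
    zc Q (Q b) * Nat.card F ^ (finrank F V - 3) ≤
      nOrb Q Y * ((Nat.card F ^ 2 - 1) * k) := by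
  classical
  have : Finite V := finite_V F
  have : Finite (Submodule F V) := finite_submodule
  set φ : p.W →ₗ[F] F := (Q.polarBilin b).comp p.W.subtype
  have hφ : ∀ w : p.W, φ w = polar Q b (w : V) := fun w => rfl
  have hw : Nat.card F ^ (finrank F V - 3) ≤ Nat.card φ.ker := by
    rw [Module.natCard_eq_pow_finrank (K := F) (V := φ.ker)]
    refine Nat.pow_le_pow_right Nat.card_pos ?_
    have h := φ.finrank_range_add_finrank_ker
    have h' := φ.range.finrank_le
    have := p.finrank_W hQ
    rw [finrank_self] at h'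
    omega
  set t := polar Q b v0
  let T := {r : Y × Y // r.1 ≠ 0 ∧ r.2 ≠ 0 ∧ polar (restr Q Y) r.1 r.2 = t}
  have hT : Nat.card T ≤ (Nat.card F ^ 2 - 1) * k := card_pairs_le hY h2 hk
  refine le_trans ?_ (Nat.mul_le_mul_left _ hT)
  refine le_trans (Nat.mul_le_mul_left _ hw) ?_
  rw [zc, nOrb, ← Nat.card_prod, ← Nat.card_prod]
  have hg : ∀ x : {x : V // Q x = Q b}, ∃ g : sieGroup Q, ap g b = x.1 := fun x =>
    exists_map_sphere hQ (Or.inl hn) p hQu x.2
  choose g hg using hg
  set O' := Set.range fun g : sieGroup Q => im g Y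
  let G : {x : V // Q x = Q b} × φ.ker → sieGroup Q := fun a => g a.1 * xr p a.2.1
  let U : {x : V // Q x = Q b} × φ.ker → O' := fun a => ⟨im (G a) Y, _, rfl⟩
  have hmem : ∀ a, ∀ v ∈ Y, ap (rp (U a))⁻¹ (ap (G a) v) ∈ Y := fun a v hv => by
    have e : im (rp (U a)) Y = im (G a) Y := rp_spec (U a)
    have h : ap (G a) v ∈ im (rp (U a)) Y := e ▸ ap_mem_im _ hv
    obtain ⟨y, hy, hyv⟩ := mem_im.1 h
    rw [← hyv, ap_inv_ap]; exact hy
  have hb0 : b ≠ 0 := fun h => hQu (by rw [h]; exact QuadraticMap.map_zero _)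
  refine Nat.card_le_card_of_injective (fun a =>
    ((U a, ⟨(⟨_, hmem a b hu⟩, ⟨_, hmem a v0 hv0⟩), ?_, ?_, ?_⟩) : O' × T)) ?_
  · exact fun h => hb0 (by simpa using congrArg Subtype.val h)
  · exact fun h => hv00 (by simpa using congrArg Subtype.val h)
  · rw [polar_restr, polar_ap, polar_ap]
  · intro a a' h
    have eU : U a = U a' := congrArg Prod.fst h
    have h1 := congrArg (fun r : O' × T => ((r.2.1.1 : Y) : V)) h
    have h2 := congrArg (fun r : O' × T => ((r.2.1.2 : Y) : V)) h
    simp only [eU] at h1 h2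
    have h1' := (ap (rp (U a'))⁻¹).injective h1
    have h2' := (ap (rp (U a'))⁻¹).injective h2
    simp only [G, H53.OmLow.ap_mul] at h1' h2'
    have hfix : ∀ w : φ.ker, ap (xr p w.1) b = b := fun w => by
      rw [xr_app, hpu, polar_comm, show polar Q b (w.1 : V) = 0 from w.2]; simp
    rw [hfix, hfix, hg, hg] at h1'
    have hx : a.1 = a'.1 := Subtype.ext h1'
    rw [hx] at h2'
    have h3 := (ap (g a'.1)).injective h2'
    rw [xr_app, xr_app] at h3
    have h4 : ((a.2.1 - a'.2.1 : p.W) : V) =
        (polar Q p.e v0)⁻¹ • ((polar Q (a.2.1 : V) v0 - Q (a.2.1 : V) * polar Q p.e v0) -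
          (polar Q (a'.2.1 : V) v0 - Q (a'.2.1 : V) * polar Q p.e v0)) • p.e := by
      rw [eq_inv_smul_iff₀ hpv, Submodule.coe_sub]
      linear_combination (norm := module) -h3
    have h5 := congrArg (polar Q p.f) h4
    rw [p.f_w, polar_smul_right', polar_smul_right', p.hfe, mul_one, eq_comm, mul_eq_zero] at h5
    rw [h5.resolve_left (inv_ne_zero hpv), zero_smul, smul_zero, Submodule.coe_eq_zero,
      sub_eq_zero] at h4
    exact Prod.ext hx (Subtype.ext h4)

end Cfsg.Agent.H72.OmMin
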