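import Cfsg.Agent.H72.OmMin.Basic

/-!
Subgroups containing the whole radical of a singular vector.
-/

set_option autoImplicit false
set_option linter.unusedSectionVars false

namespace Cfsg.Agent.H72.OmMin

open QuadraticMap Module
open Cfsg.Agent.Orthogonal Cfsg.Agent.H53.OmLow

variable {F V : Type*} [Field F] [Finite F] [AddCommGroup V] [Module F V] [FiniteDimensional F V]
variable {Q : QuadraticForm F V} (H : Subgroup (sieGroup Q))

/-- The radical of `e` lies in the subgroup. -/
def RadIn (e : V) : Prop :=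
  ∀ (w : V) (he : Q e = 0) (hw : polar Q e w = 0), sg e w he hw ∈ H

variable {H}

theorem RadIn.image {e v : V} (h : RadIn H e) (he : Q e = 0) {g : sieGroup Q} (hg : g ∈ H) {s : F}
    (hs : s ≠ 0) (hv : ap g e = s • v) : RadIn H v := by
  intro w hv' hw
  have hew : polar Q e (ap g⁻¹ (s⁻¹ • w)) = 0 := by
    rw [← polar_ap g, ap_ap_inv, hv, polar_smul_left', polar_smul_right', hw, mul_zero, mul_zero]
  have := H.mul_mem (H.mul_mem hg (h _ he hew)) (H.inv_mem hg)
  rw [sg_conj] at this
  convert this using 1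
  refine Subtype.ext ?_
  rw [sg_val, sg_val]
  refine O.ext_app fun x => ?_
  have e1 : ((g : O Q) : V ≃ₗ[F] V) e = s • v := hv
  have e2 : ((g : O Q) : V ≃ₗ[F] V) (ap g⁻¹ (s⁻¹ • w)) = s⁻¹ • w := ap_ap_inv g _
  simp only [sie_app, e1, e2, qmap_smul, polar_smul_left']
  match_scalars <;> field_simp

theorem RadIn.step {a b u : V} (ha : RadIn H a) (hb : RadIn H b) (hQa : Q a = 0) (hQb : Q b = 0)
    (hab : polar Q a b ≠ 0) (hQu : Q u = 0) (hub : polar Q u b ≠ 0) : RadIn H u := by
  set a' := (polar Q a b)⁻¹ • a with ha'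
  set u' := (polar Q u b)⁻¹ • u with hu'
  have e1 : polar Q a' b = 1 := by rw [ha', polar_smul_left', inv_mul_cancel₀ hab]
  have e2 : polar Q u' b = 1 := by rw [hu', polar_smul_left', inv_mul_cancel₀ hub]
  have q1 : Q a' = 0 := by rw [ha', qmap_smul, hQa, mul_zero]
  have q2 : Q u' = 0 := by rw [hu', qmap_smul, hQu, mul_zero]
  set w := a' - u' + polar Q a' u' • b with hw
  have e1' : polar Q b a' = 1 := by rw [polar_comm]; exact e1
  have e2' : polar Q b u' = 1 := by rw [polar_comm]; exact e2
  clear_value a' u'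
  have hbw : polar Q b w = 0 := by
    rw [hw, polar_add_right, polar_sub_right, polar_smul_right', e1', e2', polar_self', hQb]
    ring
  refine ha.image hQa (hb w hQb hbw) (s := polar Q a b / polar Q u b) (div_ne_zero hab hub) ?_
  have key : ap (sg b w hQb hbw) a' = u' := by
    have hQw : Q w = -polar Q a' u' := by
      simp only [hw, map_add_polar, qmap_sub, qmap_smul, polar_sub_left, polar_smul_right', q1, q2,
        hQb, e1, e2]
      ring
    show ((sie b w hQb hbw : O Q) : V ≃ₗ[F] V) a' = u'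
    rw [sie_app, hQw, e1']
    simp only [hw, polar_add_left, polar_sub_left, polar_smul_left', polar_self', q1, e1',
      polar_comm (⇑Q) u' a']
    match_scalars <;> ring
  rw [ha', map_smul, inv_smul_eq_iff₀ hab] at key
  rw [key, hu', smul_smul, div_eq_mul_inv]

/-- Two opposite radicals generate. -/
theorem eq_top_of_radIn (hQ : Nondeg Q) (hn : 3 ≤ finrank F V) {a b : V} (ha : RadIn H a)
    (hb : RadIn H b) (hQa : Q a = 0) (hQb : Q b = 0) (hab : polar Q a b ≠ 0) : H = ⊤ := by
  have all : ∀ u, u ≠ 0 → Q u = 0 → RadIn H u := by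
    intro u hu0 hu
    have ha0 : a ≠ 0 := fun h => hab (by rw [h, polar_zero_left])
    obtain ⟨v, hv, hav, huv⟩ := exists_common_partner hQ hn ha0 hu0 hQa hu
    have hvr : RadIn H v :=
      hb.step ha hQb hQa (by rwa [polar_comm]) hv (by rwa [polar_comm])
    exact ha.step hvr hQa hv hav hu huv
  have key : sieGroup Q ≤ H.map (sieGroup Q).subtype := by
    refine (Subgroup.closure_le _).2 ?_
    rintro _ ⟨u, w, hu, hw, rfl⟩
    rcases eq_or_ne u 0 with rfl | hu0
    · have e : sie (Q := Q) 0 w hu hw = 1 := O.ext_app fun x => by rw [sie_app]; simp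
      rw [e]; exact one_mem _
    exact ⟨sg u w hu hw, all u hu0 hu w hu hw, rfl⟩
  refine eq_top_iff.2 fun g _ => ?_
  obtain ⟨g', hg', e⟩ := key g.2
  rwa [← show g' = g from Subtype.ext e]

/-- A proper subgroup containing a radical fixes a totally singular subspace. -/
theorem exists_totSing (hQ : Nondeg Q) (hn : 3 ≤ finrank F V) (hH : H ≠ ⊤) {e : V} (he0 : e ≠ 0)
    (he : Q e = 0) (hr : RadIn H e) :
    ∃ U : Submodule F V, U ≠ ⊥ ∧ TotSing Q U ∧ ∀ g ∈ H, im g U = U := by
  set S := {v : V | Q v = 0 ∧ RadIn H v} with hS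
  have hperp : ∀ a ∈ S, ∀ b ∈ S, polar Q a b = 0 := fun a ha b hb => by
    by_contra h
    exact hH (eq_top_of_radIn hQ hn ha.2 hb.2 ha.1 hb.1 h)
  refine ⟨Submodule.span F S, ?_, ?_, ?_⟩
  · intro h
    rw [Submodule.span_eq_bot] at h
    exact he0 (h e ⟨he, hr⟩)
  · have h2 : ∀ x ∈ Submodule.span F S, Q x = 0 ∧ ∀ b ∈ S, polar Q x b = 0 := by
      intro x hx
      induction hx using Submodule.span_induction with
      | mem y hy => exact ⟨hy.1, hperp y hy⟩
      | zero => exact ⟨QuadraticMap.map_zero _, fun b _ => polar_zero_left (Q := Q) b⟩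
      | add y z hys hzs hy hz =>
        have hyz : polar Q y z = 0 := by
          clear hz
          induction hzs using Submodule.span_induction with
          | mem b hb => exact hy.2 b hb
          | zero => exact polar_zero_right (Q := Q) _
          | add b c _ _ hb hc => rw [polar_add_right, hb, hc, add_zero]
          | smul c b _ hb => rw [polar_smul_right', hb, mul_zero]
        exact ⟨by rw [map_add_polar, hy.1, hz.1, hyz, add_zero, add_zero],
          fun b hb => by rw [polar_add_left, hy.2 b hb, hz.2 b hb, add_zero]⟩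
      | smul c y _ hy =>
        exact ⟨by rw [qmap_smul, hy.1, mul_zero], fun b hb => by
          rw [polar_smul_left', hy.2 b hb, mul_zero]⟩
    exact fun x hx => (h2 x hx).1
  · intro g hg
    have hgS : ∀ k ∈ H, ∀ v ∈ S, ap k v ∈ S := fun k hk v hv =>
      ⟨by rw [q_ap]; exact hv.1, hv.2.image hv.1 hk one_ne_zero (one_smul F _).symm⟩
    rw [im, Submodule.map_span]
    congr 1
    refine Set.Subset.antisymm ?_ fun v hv => ⟨ap g⁻¹ v, hgS _ (H.inv_mem hg) v hv, ap_ap_inv g v⟩
    rintro _ ⟨v, hv, rfl⟩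
    exact hgS g hg v hv

end Cfsg.Agent.H72.OmMin
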