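import Cfsg.Agent.H72.OmMin.Radical
import Cfsg.Agent.H72.OmMin.Arith

/-!
Orbit sizes of totally singular subspaces.
-/

set_option autoImplicit false
set_option linter.unusedSectionVars false

namespace Cfsg.Agent.H72.OmMin

open QuadraticMap Module
open Cfsg.Agent.Orthogonal Cfsg.Agent.H53.OmLow

variable {F V : Type*} [Field F] [Finite F] [AddCommGroup V] [Module F V] [FiniteDimensional F V]
variable {Q : QuadraticForm F V}

theorem nSing_top (Q : QuadraticForm F V) : nSing Q ⊤ + 1 = zc Q 0 := by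
  classical
  have : Finite V := finite_V F
  have : Fintype V := Fintype.ofFinite V
  rw [nSing, zc, Nat.card_eq_fintype_card, Nat.card_eq_fintype_card, Fintype.card_subtype,
    Fintype.card_subtype, ← Finset.card_insert_of_notMem (a := (0 : V)) (by simp)]
  congr 1
  ext x
  simp only [Finset.mem_insert, Finset.mem_filter, Finset.mem_univ, true_and, Submodule.mem_top]
  constructor
  · rintro (rfl | ⟨-, h⟩)
    · exact QuadraticMap.map_zero _
    · exact h
  · intro h
    rcases eq_or_ne x 0 with rfl | hx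
    · exact Or.inl rfl
    · exact Or.inr ⟨hx, h⟩

theorem nSing_totSing {U : Submodule F V} (hU : TotSing Q U) :
    nSing Q U + 1 = Nat.card F ^ finrank F U := by
  classical
  have : Finite V := finite_V F
  have : Fintype V := Fintype.ofFinite V
  rw [← natCard_eq_pow, nSing, Nat.card_eq_fintype_card, Nat.card_eq_fintype_card,
    Fintype.card_subtype, Fintype.card_subtype,
    ← Finset.card_insert_of_notMem (a := (0 : V)) (by simp)]
  congr 1
  ext x
  simp only [Finset.mem_insert, Finset.mem_filter, Finset.mem_univ, true_and]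
  constructor
  · rintro (rfl | ⟨h, -⟩)
    · exact zero_mem _
    · exact h
  · intro h
    rcases eq_or_ne x 0 with rfl | hx
    · exact Or.inl rfl
    · exact Or.inr ⟨h, hx, hU x h⟩

/-- The trace of a totally singular subspace through the first vector of a pair. -/
theorem finrank_trace (p : HP Q) {U : Submodule F V} (hU : TotSing Q U) (he : p.e ∈ U) :
    TotSing (restr Q p.W) (trace p U) ∧ finrank F (trace p U) + 1 = finrank F U := by
  refine ⟨fun x hx => hU _ hx, ?_⟩
  let φ : U →ₗ[F] F := (Q.polarBilin p.f).comp U.subtype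
  have hφ : ∀ x : U, φ x = polar Q p.f (x : V) := fun x => rfl
  have hsurj : Function.Surjective φ := fun c => ⟨c • ⟨p.e, he⟩, by
    rw [map_smul, hφ, p.hfe, smul_eq_mul, mul_one]⟩
  have h := φ.finrank_range_add_finrank_ker
  rw [LinearMap.range_eq_top.2 hsurj, finrank_top, finrank_self] at h
  have hW : ∀ x : φ.ker, ((x : U) : V) ∈ p.W := fun x => p.mem_W.2
    ⟨hU.polar_eq he (x : U).2, by rw [← hφ]; exact x.2⟩
  let e : φ.ker ≃ₗ[F] trace p U :=
    { toFun := fun x => ⟨⟨_, hW x⟩, (x : U).2⟩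
      invFun := fun z => ⟨⟨((z : p.W) : V), z.2⟩, by
        rw [LinearMap.mem_ker, hφ]; exact p.f_w (z : p.W)⟩
      left_inv := fun _ => rfl
      right_inv := fun _ => rfl
      map_add' := fun _ _ => rfl
      map_smul' := fun _ _ => rfl }
  rw [← e.finrank_eq]
  omega

theorem exists_pair_mem (hQ : Nondeg Q) {U : Submodule F V} {x : V} (hx : x ∈ U) (hx0 : x ≠ 0)
    (hQx : Q x = 0) : ∃ p : HP Q, p.e ∈ U := by
  obtain ⟨f, hf, hxf⟩ := hQ.exists_partner hx0 hQx
  exact ⟨⟨x, f, hQx, hf, hxf⟩, hx⟩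

theorem exists_mem_ne_zero {U : Submodule F V} (h : 1 ≤ finrank F U) : ∃ x ∈ U, x ≠ 0 := by
  refine Submodule.exists_mem_ne_zero_of_ne_bot fun hb => ?_
  rw [hb, finrank_bot] at h
  omega

/-- One step: points. -/
theorem one_step (hQ : Nondeg Q) (hn : 3 ≤ finrank F V) {U : Submodule F V} (hU : TotSing Q U)
    (hj : 1 ≤ finrank F U) :
    nSing Q ⊤ ≤ nOrb Q U * nSing Q U := by
  obtain ⟨x, hx, hx0⟩ := exists_mem_ne_zero hj
  obtain ⟨p, hp⟩ := exists_pair_mem hQ hx hx0 (hU x hx)
  exact le_trans (Nat.le_mul_of_pos_right _ (nOrb_pos _)) (nOrb_rec hQ hn p U hp)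

theorem finrank_totSing_le (hQ : Nondeg Q) {k d : ℕ} (hT : HasType Q k d) (hd : d ≤ 1)
    {U : Submodule F V} (hU : TotSing Q U) : finrank F U ≤ k := by
  have h1 := hQ.finrank_add_perp U
  have h2 := hT.finrank_eq hQ
  have h3 : finrank F U ≤ finrank F (perp Q U) :=
    Submodule.finrank_mono fun x hx w hw => hU.polar_eq hw hx
  omega

theorem nSing_type (hQ : Nondeg Q) {k d : ℕ} (hT : HasType Q (k + 1) d) (hd : d ≤ 1) :
    nSing Q ⊤ = zNum (Nat.card F) k d := by
  have h := zc_zero hT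
  rw [← nSing_top] at h
  have hq : 0 < Nat.card F := Nat.card_pos
  set q := Nat.card F
  obtain ⟨A, hA⟩ : ∃ A, q ^ (k + 1) = A + 1 :=
    ⟨_, (Nat.succ_pred_eq_of_pos (Nat.pow_pos hq)).symm⟩
  rw [zNum, hA, Nat.add_sub_cancel]
  refine Nat.eq_of_mul_eq_mul_left hq ?_
  rw [show q ^ (2 * (k + 1) + d) = q ^ (k + 1) * q ^ (k + 1 + d) by rw [← pow_add]; ring_nf,
    hA, show q ^ (k + 1 + d) = q * q ^ (k + d) by rw [← pow_succ']; ring_nf] at h
  rw [pow_succ' q (k + 1), hA] at h
  linarith

/-- One step down. -/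
theorem rec_type (hQ : Nondeg Q) (hn : 3 ≤ finrank F V) {k d : ℕ} (hT : HasType Q (k + 1) d)
    {U : Submodule F V} (hU : TotSing Q U) (hj : 1 ≤ finrank F U) :
    ∃ (p : HP Q) (U' : Submodule F p.W), TotSing (restr Q p.W) U' ∧
      finrank F U' + 1 = finrank F U ∧ HasType (restr Q p.W) k d ∧
      nSing Q ⊤ * nOrb (restr Q p.W) U' ≤
        nOrb Q U * (Nat.card F ^ finrank F U - 1) := by
  obtain ⟨x, hx, hx0⟩ := exists_mem_ne_zero hj
  obtain ⟨p, hp⟩ := exists_pair_mem hQ hx hx0 (hU x hx)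
  obtain ⟨h1, h2⟩ := finrank_trace p hU hp
  refine ⟨p, trace p U, h1, h2, hT.perp_pair hQ p, ?_⟩
  have h := nOrb_rec hQ hn p U hp
  have h' := nSing_totSing hU
  rwa [show nSing Q U = Nat.card F ^ finrank F U - 1 by omega] at h

theorem one_step_type (hQ : Nondeg Q) (hn : 3 ≤ finrank F V) {k d : ℕ} (hT : HasType Q (k + 1) d)
    (hd : d ≤ 1) {U : Submodule F V} (hU : TotSing Q U) (hj : 1 ≤ finrank F U) :
    zNum (Nat.card F) k d ≤ nOrb Q U * (Nat.card F ^ finrank F U - 1) := by
  have h := one_step hQ hn hU hj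
  have h' := nSing_totSing hU
  rwa [nSing_type hQ hT hd, show nSing Q U = Nat.card F ^ finrank F U - 1 by omega] at h

/-- Two steps of the recursion. -/
theorem two_steps (hQ : Nondeg Q) {k d : ℕ} (hT : HasType Q (k + 2) d) (hd : d ≤ 1)
    (hn : 5 ≤ finrank F V) {U : Submodule F V} (hU : TotSing Q U) (hj : 2 ≤ finrank F U) :
    zNum (Nat.card F) (k + 1) d * zNum (Nat.card F) k d ≤
      nOrb Q U * ((Nat.card F ^ finrank F U - 1) * (Nat.card F ^ (finrank F U - 1) - 1)) := by
  obtain ⟨p, U', h1, h2, h3, h4⟩ := rec_type hQ (by omega) hT hU (by omega)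
  have hW := p.finrank_W hQ
  have h5 := one_step_type (p.nd hQ) (by omega) h3 hd h1 (by omega)
  rw [nSing_type hQ hT hd] at h4
  rw [show finrank F U' = finrank F U - 1 by omega] at h5
  calc zNum (Nat.card F) (k + 1) d * zNum (Nat.card F) k d
      ≤ zNum (Nat.card F) (k + 1) d * (nOrb (restr Q p.W) U' * _) := Nat.mul_le_mul_left _ h5
    _ ≤ nOrb Q U * (Nat.card F ^ finrank F U - 1) * _ := by
        rw [← mul_assoc]; exact Nat.mul_le_mul_right _ h4
    _ = _ := by ring

/-- Orbits of totally singular subspaces. -/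
theorem totSing_bound (hQ : Nondeg Q) {d d0 : ℕ} (hC : Case (Nat.card F) d d0)
    (hT : HasType Q (d + 1) d0) {U : Submodule F V} (hU : TotSing Q U) (hU0 : U ≠ ⊥) :
    bnd (Nat.card F) d d0 ≤ nOrb Q U * (Nat.card F - 1) := by
  have hd := hC.two_le_d
  have hd0 : d0 ≤ 1 := by rcases hC with h | h <;> omega
  have hn := hT.finrank_eq hQ
  have hn' : 7 ≤ finrank F V := by rcases hC with h | h <;> omega
  have hj : 1 ≤ finrank F U := Submodule.one_le_finrank_iff.2 hU0
  have hjd := finrank_totSing_le hQ hT hd0 hU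
  obtain hj1 | hj2 | hj3 : finrank F U = 1 ∨ finrank F U = 2 ∨ 3 ≤ finrank F U := by omega
  · have h := one_step_type hQ (by omega) hT hd0 hU hj
    rw [hj1, pow_one] at h
    exact arith_one.trans h
  · have e : d + 1 = d - 1 + 2 := by omega
    have h := two_steps hQ (e ▸ hT) hd0 (by omega) hU hj2.ge
    rw [show d - 1 + 1 = d by omega, hj2, pow_one] at h
    exact arith_two hC h
  · refine arith_three hC hj3 hjd ?_
    have e : d = d - 2 + 2 := by omega
    obtain ⟨p, U', h1, h2, h3, h4⟩ := rec_type hQ (by omega) hT hU (by omega)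
    have hW := p.finrank_W hQ
    have h5 := two_steps (p.nd hQ) (e ▸ h3) hd0 (by omega) h1 (by omega)
    rw [show d - 2 + 1 = d - 1 by omega, show finrank F U' = finrank F U - 1 by omega,
      show finrank F U - 1 - 1 = finrank F U - 2 by omega] at h5
    rw [nSing_type hQ hT hd0] at h4
    calc zNum (Nat.card F) d d0 * (zNum (Nat.card F) (d - 1) d0 * zNum (Nat.card F) (d - 2) d0)
        ≤ zNum (Nat.card F) d d0 * (nOrb (restr Q p.W) U' * _) := Nat.mul_le_mul_left _ h5
      _ ≤ nOrb Q U * (Nat.card F ^ finrank F U - 1) * _ := by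
          rw [← mul_assoc]; exact Nat.mul_le_mul_right _ h4
      _ = _ := by ring

end Cfsg.Agent.H72.OmMin
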